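import Groth.Agent.NormalLib.Serre
import Groth.Agent.NormalLib.Regular
import Mathlib.RingTheory.Invariant.Basic
import Mathlib.LinearAlgebra.LinearIndependent.Basic
import Mathlib.LinearAlgebra.Matrix.ToLinearEquiv
import Mathlib.GroupTheory.NoncommPiCoprod
import Mathlib.RingTheory.TensorProduct.Maps

/-!
# Generation of a normal ring by invariant rings of complementary inertia groups
-/

set_option autoImplicit false

universe u v w

open TensorProduct Pointwise

namespace WildQuotLib

variable {R : Type u} [CommRing R] {A : Type v} [CommRing A] [Algebra R A]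
  {H : Type w} [Group H] [MulSemiringAction H A] [SMulCommClass H R A]

/-- Evaluation `x ⊗ y ↦ x * (τ • y)`. -/
noncomputable def twistEval (S : Subalgebra R A) (τ : H) : A ⊗[R] S →ₐ[R] A :=
  Algebra.TensorProduct.productMap (AlgHom.id R A) ((MulSemiringAction.toAlgHom R A τ).comp S.val)

theorem twistEval_tmul (S : Subalgebra R A) (τ : H) (x : A) (y : S) :
    twistEval S τ (x ⊗ₜ y) = x * τ • (y : A) := by
  simp [twistEval]

/-- If a subalgebra contains the invariants of `D` and separates `D` at all primes over `p`, it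
agrees with the whole ring at `p`. -/
theorem exists_smul_mem [Finite H] [Algebra.IsIntegral R A] (D : Subgroup H) (S : Subalgebra R A)
    (hD : ∀ a : A, (∀ σ ∈ D, σ • a = a) → a ∈ S) (p : Ideal R) [p.IsPrime]
    (hsep : ∀ σ ∈ D, σ ≠ 1 → ∀ P : Ideal A, P.IsPrime → P.comap (algebraMap R A) = p →
      ∃ b ∈ S, σ • b - b ∉ P) :
    ∃ s : R, s ∉ p ∧ ∀ a : A, s • a ∈ S := by
  classical
  cases nonempty_fintype H
  have step : ∀ σ : H, ∃ (s : R) (f : A ⊗[R] S), σ ∈ D → σ ≠ 1 →
      (s ∉ p ∧ twistEval S (1 : H) f = algebraMap R A s ∧ twistEval S σ f = 0) := by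
    intro σ
    by_cases hσ : σ ∈ D ∧ σ ≠ 1
    · let J : Ideal A := Ideal.span {z | ∃ b ∈ S, b - σ • b = z}
      obtain ⟨s, hsJ, hsp⟩ : ∃ s, s ∈ J.comap (algebraMap R A) ∧ s ∉ p := by
        by_contra hcon
        push Not at hcon
        obtain ⟨P, hJP, hP, hPp⟩ := Ideal.exists_ideal_over_prime_of_isIntegral p J hcon
        obtain ⟨b, hb, hbP⟩ := hsep σ hσ.1 hσ.2 P hP hPp
        exact hbP (by simpa using P.neg_mem (hJP (Ideal.subset_span ⟨b, hb, rfl⟩)))
      suffices h : ∀ z ∈ J, ∃ f : A ⊗[R] S, twistEval S (1 : H) f = z ∧ twistEval S σ f = 0 by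
        obtain ⟨f, h1, h2⟩ := h _ hsJ
        exact ⟨s, f, fun _ _ => ⟨hsp, h1, h2⟩⟩
      intro z hz
      refine Submodule.span_induction ?_ ?_ ?_ ?_ hz
      · rintro _ ⟨b, hb, rfl⟩
        refine ⟨(1 : A) ⊗ₜ ⟨b, hb⟩ - (σ • b) ⊗ₜ 1, ?_, ?_⟩ <;> simp [map_sub, twistEval_tmul]
      · exact ⟨0, by simp, by simp⟩
      · rintro x y - - ⟨f, h1, h2⟩ ⟨g, h3, h4⟩
        exact ⟨f + g, by simp [h1, h3], by simp [h2, h4]⟩
      · rintro a x - ⟨f, h1, h2⟩
        exact ⟨(a ⊗ₜ 1) * f, by simp [h1, twistEval_tmul], by simp [h2]⟩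
    · exact ⟨1, 1, fun h1 h2 => absurd ⟨h1, h2⟩ hσ⟩
  choose s f hsf using step
  let T : Finset H := Finset.univ.filter fun σ => σ ∈ D ∧ σ ≠ 1
  refine ⟨∏ σ ∈ T, s σ, fun hmem => ?_, fun a => ?_⟩
  · obtain ⟨σ, hσ, hsσ⟩ := Ideal.IsPrime.prod_mem_iff.1 hmem
    simp only [T, Finset.mem_filter] at hσ
    exact (hsf σ hσ.2.1 hσ.2.2).1 hsσ
  have key : ∀ t : A ⊗[R] S, ∑ τ : D, (τ : H) • (a * twistEval S (τ : H)⁻¹ t) ∈ S := by
    intro t
    induction t using TensorProduct.induction_on with
    | zero => simp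
    | tmul x y =>
      simp only [twistEval_tmul, smul_mul', smul_inv_smul, ← mul_assoc, ← Finset.sum_mul]
      refine S.mul_mem (hD _ fun σ hσ => ?_) y.2
      rw [Finset.smul_sum]
      refine Fintype.sum_equiv (Equiv.mulLeft ⟨σ, hσ⟩) _ _ fun τ => ?_
      simp [mul_smul, smul_mul']
    | add x y hx hy =>
      simp only [map_add, mul_add, smul_add, Finset.sum_add_distrib]
      exact S.add_mem hx hy
  have := key (∏ σ ∈ T, f σ)
  rw [Finset.sum_eq_single (1 : D)] at this
  · simp only [OneMemClass.coe_one, inv_one, one_smul, map_prod] at this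
    rw [Finset.prod_congr rfl fun σ hσ => (hsf σ (Finset.mem_filter.1 hσ).2.1
      (Finset.mem_filter.1 hσ).2.2).2.1, ← map_prod, mul_comm, ← Algebra.smul_def] at this
    exact this
  · intro τ _ hτ
    have hτ1 : (τ : H)⁻¹ ∈ T := by
      simp only [T, Finset.mem_filter, Finset.mem_univ, true_and]
      exact ⟨D.inv_mem τ.2, by simpa using hτ⟩
    rw [map_prod, Finset.prod_eq_zero hτ1 ((hsf _ (Finset.mem_filter.1 hτ1).2.1
      (Finset.mem_filter.1 hτ1).2.2).2.2), mul_zero, smul_zero]
  · exact fun h => absurd (Finset.mem_univ _) h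

/-- An automorphism acting trivially mod `P` on the invariants of `N` lies in `N` times inertia. -/
theorem mem_sup_inertia [Finite H] (hcomm : ∀ g h : H, g * h = h * g) (N : Subgroup H) (P : Ideal A)
    [P.IsPrime] (σ : H) (hσ : ∀ b : A, (∀ ν ∈ N, ν • b = b) → σ • b - b ∈ P) :
    σ ∈ N ⊔ P.inertia H := by
  let B : Subring A := FixedPoints.subring A N
  have hB : ∀ b : B, ∀ ν ∈ N, ν • (b : A) = b := fun b ν hν => b.2 ⟨ν, hν⟩
  have hB' : ∀ (b : B) (τ : H) (ν : H), ν ∈ N → ν • τ • (b : A) = τ • (b : A) := fun b τ ν hν => by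
    rw [← mul_smul, hcomm, mul_smul, hB b ν hν]
  have : SMulCommClass N B A := ⟨fun ν b a => by
    show (ν : H) • ((b : A) * a) = (b : A) * (ν : H) • a
    rw [smul_mul', hB b ν ν.2]⟩
  have : Algebra.IsInvariant B A N := ⟨fun a h => ⟨⟨a, h⟩, rfl⟩⟩
  have : P.IsPrime := inferInstance
  have : (σ • P).IsPrime := ‹P.IsPrime›.smul σ
  have hu : P.under B = (σ • P).under B := by
    refine Ideal.ext fun b => ?_
    show (b : A) ∈ P ↔ (b : A) ∈ σ • P
    rw [Ideal.mem_pointwise_smul_iff_inv_smul_mem]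
    have h := hσ (σ⁻¹ • (b : A)) (hB' b σ⁻¹)
    rw [smul_inv_smul] at h
    exact ⟨fun hb => by simpa using P.sub_mem hb h, fun hb => by simpa using P.add_mem hb h⟩
  obtain ⟨ν, hν⟩ := Algebra.IsInvariant.exists_smul_of_under_eq B A N P (σ • P) hu
  replace hν : σ • P = (ν : H) • P := hν
  let τ : H := (ν : H)⁻¹ * σ
  have hτP : τ • P = P := by rw [mul_smul, hν, inv_smul_smul]
  have hτb : ∀ b : B, τ • (b : A) - b ∈ P := fun b => by
    rw [mul_smul, hB' b σ _ (N.inv_mem ν.2)]
    exact hσ b (hB b)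
  let p : Ideal B := P.under B
  have : P.LiesOver p := ⟨rfl⟩
  let g : (A ⧸ P) ≃+* (A ⧸ P) := Ideal.quotientEquiv P P (MulSemiringAction.toRingEquiv H A τ) hτP.symm
  have hg : ∀ x : A, g (Ideal.Quotient.mk P x) = Ideal.Quotient.mk P (τ • x) := fun x => rfl
  let gA : (A ⧸ P) ≃ₐ[B ⧸ p] (A ⧸ P) := AlgEquiv.ofRingEquiv (f := g) fun x => by
    obtain ⟨b, rfl⟩ := Ideal.Quotient.mk_surjective x
    show g (Ideal.Quotient.mk P (b : A)) = Ideal.Quotient.mk P (b : A)
    rw [hg, Ideal.Quotient.eq]
    exact hτb b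
  obtain ⟨⟨μ, hμ⟩, hμg⟩ := Ideal.Quotient.stabilizerHom_surjective N p P gA
  have hμP : (μ : H)⁻¹ • P = P := by
    rw [inv_smul_eq_iff]; exact hμ.symm
  have hI : (μ : H)⁻¹ * τ ∈ P.inertia H := fun x => by
    have h := DFunLike.congr_fun hμg (Ideal.Quotient.mk P x)
    have h' : (μ : H) • x - τ • x ∈ P := (Ideal.Quotient.mk_eq_mk_iff_sub_mem _ _).1 h
    show ((μ : H)⁻¹ * τ) • x - x ∈ P
    have h2 := Ideal.smul_mem_pointwise_smul (μ : H)⁻¹ _ _ h'
    rw [hμP, smul_sub, inv_smul_smul, ← mul_smul] at h2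
    simpa using P.neg_mem h2
  have : σ = ((ν : H) * μ) * ((μ : H)⁻¹ * τ) := by simp [τ, mul_assoc]
  rw [this]
  exact Subgroup.mul_mem_sup (N.mul_mem ν.2 μ.2) hI

variable [IsDomain A] [FaithfulSMul H A]

theorem linearIndependent_toMonoidHom :
    LinearIndependent A fun (τ : H) (y : A) => τ • y :=
  (linearIndependent_monoidHom A A).comp
    (fun τ : H => (MulSemiringAction.toRingHom H A τ).toMonoidHom)
    fun _ _ h => eq_of_smul_eq_smul fun a => DFunLike.congr_fun h a

variable [Fintype H]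

/-- `R`-independent elements have `A`-independent vectors of conjugates. -/
theorem eq_zero_of_forall_sum_conj (hinj : Function.Injective (algebraMap R A))
    (hfix : ∀ a : A, (∀ h : H, h • a = a) → a ∈ Set.range (algebraMap R A))
    {ι : Type*} [Fintype ι] {b : ι → A} (hb : LinearIndependent R b) (c : ι → A)
    (hc : ∀ τ : H, ∑ k, c k * τ • b k = 0) : c = 0 := by
  funext k₀
  suffices h : ∀ y, ∑ τ : H, (τ • c k₀) * τ • y = 0 from
    (one_smul H (c k₀)) ▸ (Fintype.linearIndependent_iff.1 (linearIndependent_toMonoidHom (H := H) (A := A))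
      (fun τ => τ • c k₀) (funext fun y => by simpa using h y) 1)
  intro y
  have hr : ∀ k, ∃ r, algebraMap R A r = ∑ τ : H, τ • (c k * y) := fun k => hfix _ fun h => by
    rw [Finset.smul_sum]
    exact Fintype.sum_equiv (Equiv.mulLeft h) _ _ fun τ => by simp [mul_smul]
  choose r hr using hr
  have h0 : ∑ k, r k • b k = 0 := by
    simp only [Algebra.smul_def, hr, Finset.sum_mul]
    rw [Finset.sum_comm]
    refine Finset.sum_eq_zero fun τ _ => ?_
    calc ∑ k, τ • (c k * y) * b k = τ • (y * ∑ k, c k * τ⁻¹ • b k) := by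
          rw [Finset.mul_sum, Finset.smul_sum]
          refine Finset.sum_congr rfl fun k _ => ?_
          simp only [smul_mul', smul_inv_smul]
          ring
      _ = 0 := by rw [hc, mul_zero, smul_zero]
  have := hr k₀
  rw [Fintype.linearIndependent_iff.1 hb r h0 k₀, map_zero] at this
  simpa [smul_mul'] using this.symm

theorem card_le_index (hinj : Function.Injective (algebraMap R A))
    (hfix : ∀ a : A, (∀ h : H, h • a = a) → a ∈ Set.range (algebraMap R A)) (N : Subgroup H)
    {ι : Type*} [Fintype ι] {b : ι → A} (hb : LinearIndependent R b)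
    (hN : ∀ k, ∀ ν ∈ N, ν • b k = b k) : Fintype.card ι ≤ Nat.card (H ⧸ N) := by
  classical
  let V : ι → (H ⧸ N → A) := fun k q => q.out • b k
  have hli : LinearIndependent A V := Fintype.linearIndependent_iff.2 fun c hc => by
    refine congrFun (eq_zero_of_forall_sum_conj hinj hfix hb c fun τ => ?_)
    have h := congrFun hc (QuotientGroup.mk τ)
    obtain ⟨ν, hν⟩ := QuotientGroup.mk_out_eq_mul N τ
    simpa [V, hν, mul_smul, hN _ _ ν.2] using h
  have := hli.fintype_card_le_finrank
  rwa [Module.finrank_pi, ← Nat.card_eq_fintype_card (α := H ⧸ N)] at this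

theorem linearIndependent_of_generates (hinj : Function.Injective (algebraMap R A))
    {ι : Type*} [Fintype ι] (e : ι → A) {s : R} (hs : s ≠ 0)
    (hgen : ∀ a : A, s • a ∈ Submodule.span R (Set.range e))
    (hcard : Fintype.card ι ≤ Fintype.card H) : LinearIndependent R e := by
  classical
  have hrow : ∀ c : H → A, (∀ K, ∑ τ, c τ * τ • e K = 0) → c = 0 := by
    intro c hc
    refine funext (Fintype.linearIndependent_iff.1 (linearIndependent_toMonoidHom (H := H) (A := A)) c (funext fun y => ?_))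
    obtain ⟨d, hd⟩ := Submodule.mem_span_range_iff_exists_fun R |>.1 (hgen y)
    have h0 : ∑ τ : H, c τ * τ • (s • y) = 0 := by
      simp only [← hd, Finset.smul_sum, Finset.mul_sum]
      rw [Finset.sum_comm]
      refine Finset.sum_eq_zero fun K _ => ?_
      simp only [fun τ : H => smul_comm τ (d K) (e K), mul_smul_comm, ← Finset.smul_sum, hc, smul_zero]
    simp only [fun τ : H => smul_comm τ s y, mul_smul_comm, ← Finset.smul_sum] at h0
    rw [Algebra.smul_def] at h0
    simpa using (mul_eq_zero.1 h0).resolve_left fun h => hs (hinj (h.trans (map_zero _).symm))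
  have hli : LinearIndependent A fun (τ : H) (K : ι) => τ • e K :=
    Fintype.linearIndependent_iff.2 fun c hc => congrFun (hrow c fun K => by
      simpa using congrFun hc K)
  have h1 := hli.fintype_card_le_finrank
  rw [Module.finrank_pi] at h1
  let ε : H ≃ ι := Fintype.equivOfCardEq (le_antisymm h1 hcard)
  let M : Matrix H H A := Matrix.of fun τ μ => τ • e (ε μ)
  have hdet : M.det ≠ 0 := fun h => by
    obtain ⟨c, hc0, hc⟩ := Matrix.exists_vecMul_eq_zero_iff.2 h
    refine hc0 (hrow c fun K => ?_)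
    simpa [M, Matrix.vecMul, dotProduct] using congrFun hc (ε.symm K)
  rw [Fintype.linearIndependent_iff]
  intro d hd K
  have hv : M.mulVec (fun μ => algebraMap R A (d (ε μ))) = 0 := funext fun τ => by
    have := congrArg (τ • ·) hd
    simp only [Finset.smul_sum, smul_zero, smul_comm τ] at this
    rw [Pi.zero_apply, ← this]
    simp only [M, Matrix.mulVec, dotProduct, Matrix.of_apply]
    exact Fintype.sum_equiv ε _ _ fun μ => by rw [Algebra.smul_def, mul_comm]
  by_contra hK
  refine hdet (Matrix.exists_mulVec_eq_zero_iff.1 ⟨_, fun h => hK (hinj ?_), hv⟩)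
  simpa using congrFun h (ε.symm K)

omit [IsDomain A] [FaithfulSMul H A] [Fintype H] in
/-- Products of spanning families span the compositum. -/
theorem iSup_le_span_prod {J : Type*} [Fintype J] (B : J → Subalgebra R A) {κ : J → Type*}
    [∀ j, Fintype (κ j)] (b : ∀ j, κ j → A)
    (hbB : ∀ j (x : B j), ∃ c : κ j → R, ∑ k, c k • b j k = x) (hmem : ∀ j k, b j k ∈ B j) :
    Subalgebra.toSubmodule (⨆ j, B j) =
      Submodule.span R (Set.range fun K : ∀ j, κ j => ∏ j, b j (K j)) := by
  classical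
  set M := Submodule.span R (Set.range fun K : ∀ j, κ j => ∏ j, b j (K j))
  have hprod : ∀ x : ∀ j, B j, ∏ j, (x j : A) ∈ M := fun x => by
    choose c hc using fun j => hbB j (x j)
    simp only [← hc]
    rw [Fintype.prod_sum]
    refine Submodule.sum_mem _ fun K _ => ?_
    rw [Finset.prod_smul]
    exact Submodule.smul_mem _ _ (Submodule.subset_span ⟨K, rfl⟩)
  have hone : (1 : A) ∈ M := by simpa using hprod fun j => 1
  have hmul : ∀ x y, x ∈ M → y ∈ M → x * y ∈ M := fun x y hx hy => by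
    have h := Submodule.mul_mem_mul hx hy
    rw [Submodule.span_mul_span] at h
    refine Submodule.span_le.2 ?_ h
    rintro _ ⟨_, ⟨K, rfl⟩, _, ⟨L, rfl⟩, rfl⟩
    simp only [← Finset.prod_mul_distrib]
    exact hprod fun j => ⟨_, (B j).mul_mem (hmem j (K j)) (hmem j (L j))⟩
  refine le_antisymm ?_ (Submodule.span_le.2 ?_)
  · have : (⨆ j, B j) ≤ M.toSubalgebra hone hmul := iSup_le fun j x hx => by
      have h := hprod (Function.update (fun i => (1 : B i)) j ⟨x, hx⟩)
      rw [Finset.prod_eq_single j (fun i _ hi => by simp [Function.update_of_ne hi])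
        (fun hj => absurd (Finset.mem_univ j) hj)] at h
      simpa using h
    exact this
  · rintro _ ⟨K, rfl⟩
    exact Subalgebra.prod_mem _ fun j _ => le_iSup B j (hmem j (K j))

omit [MulSemiringAction H A] [FaithfulSMul H A] [Fintype H] [Group H] in
theorem height_le_height_under [Algebra.IsIntegral R A] (P : Ideal A) [P.IsPrime] :
    P.height ≤ (P.comap (algebraMap R A)).height := by
  have := Order.height_le_height_apply_of_strictMono
    (fun Q : PrimeSpectrum A => PrimeSpectrum.comap (algebraMap R A) Q)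
    (fun Q Q' h => Ideal.IsIntegral.comap_lt_comap (R := R) (I := Q.asIdeal) h) ⟨P, inferInstance⟩
  rwa [← PrimeSpectrum.height_eq_orderHeight, ← PrimeSpectrum.height_eq_orderHeight] at this

omit [IsDomain A] [FaithfulSMul H A] [Fintype H] in
/-- Descent from codimension one along a free submodule. -/
theorem mem_span_of_codim_one [IsDomain R] [IsNoetherianRing R] [IsIntegrallyClosed R] [IsDomain A]
    (hinj : Function.Injective (algebraMap R A)) {ι : Type*} [Fintype ι] (e : ι → A)
    (he : LinearIndependent R e) {s₀ : R} (hs₀ : s₀ ≠ 0) (a : A)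
    (h0 : s₀ • a ∈ Submodule.span R (Set.range e))
    (h1 : ∀ p : Ideal R, p.IsPrime → p.height = 1 → ∃ s, s ∉ p ∧ s • a ∈ Submodule.span R (Set.range e)) :
    a ∈ Submodule.span R (Set.range e) := by
  classical
  obtain ⟨d, hd⟩ := Submodule.mem_span_range_iff_exists_fun R |>.1 h0
  have hdvd : ∀ K, s₀ ∣ d K := fun K => NormalLib.dvd_of_forall_associatedPrimes fun P hP => by
    obtain ⟨s, hs, hsa⟩ := h1 P hP.isPrime (NormalLib.height_eq_one_of_mem_associatedPrimes hs₀ hP)
    obtain ⟨c, hc⟩ := Submodule.mem_span_range_iff_exists_fun R |>.1 hsa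
    refine ⟨s, hs, c K, sub_eq_zero.1 (Fintype.linearIndependent_iff.1 he
      (fun K => s * d K - s₀ * c K) ?_ K)⟩
    simp only [sub_smul, Finset.sum_sub_distrib, mul_smul, ← Finset.smul_sum, hd, hc, smul_comm s s₀, sub_self]
  choose q hq using hdvd
  refine Submodule.mem_span_range_iff_exists_fun R |>.2 ⟨q, ?_⟩
  have h : s₀ • (∑ K, q K • e K) = s₀ • a := by
    rw [← hd, Finset.smul_sum]; exact Finset.sum_congr rfl fun K _ => by rw [hq, mul_smul]
  rw [Algebra.smul_def, Algebra.smul_def] at h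
  exact mul_left_cancel₀ (fun h' => hs₀ (hinj (h'.trans (map_zero _).symm))) h

end WildQuotLib
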