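import Groth.Agent.WildQuotLib.Admissible
import Groth.Agent.RegFlatLib.Basic
import Mathlib.LinearAlgebra.Matrix.ToLinearEquiv
import Mathlib.LinearAlgebra.Matrix.Adjugate
import Mathlib.LinearAlgebra.Matrix.NonsingularInverse
import Mathlib.RingTheory.Flat.EquationalCriterion
import Mathlib.RingTheory.Flat.Localization
import Mathlib.RingTheory.Invariant.Basic
import Mathlib.Algebra.Ring.Action.Subobjects

/-!
# Group actions on a regular local ring ramified only at the origin
-/

set_option autoImplicit false

universe u v w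

open IsLocalRing

namespace WildQuotLib

variable {A : Type u} [CommRing A] [IsRegularLocalRing A] {G : Type w} [Group G] [MulSemiringAction G A]

/-- The fixed subring as a ring. -/
local notation "RG" => FixedPoints.subring A G

theorem fixed_smul_eq (g : G) (r : RG) : g • (r : A) = r := r.2 g

theorem isLocalHom_fixed : IsLocalHom (RG).subtype := ⟨fun r hr => by
  obtain ⟨u, hu⟩ := hr
  have hu' : (u : A) = (r : A) := hu
  have hfix : ∀ g : G, g • ((u⁻¹ : Aˣ) : A) = ((u⁻¹ : Aˣ) : A) := fun g => by
    have h1 : (r : A) * g • ((u⁻¹ : Aˣ) : A) = 1 := by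
      conv_lhs => rw [← fixed_smul_eq g r, ← smul_mul', ← hu']
      rw [Units.mul_inv, smul_one]
    calc g • ((u⁻¹ : Aˣ) : A) = (((u⁻¹ : Aˣ) : A) * (r : A)) * g • ((u⁻¹ : Aˣ) : A) := by
          rw [← hu', Units.inv_mul, one_mul]
      _ = ((u⁻¹ : Aˣ) : A) := by rw [mul_assoc, h1, mul_one]
  exact IsUnit.of_mul_eq_one (⟨((u⁻¹ : Aˣ) : A), hfix⟩ : RG) (Subtype.ext (by
    show (r : A) * ((u⁻¹ : Aˣ) : A) = 1
    rw [← hu', Units.mul_inv]))⟩

instance isLocalRing_fixed : IsLocalRing RG :=
  haveI := isLocalHom_fixed (A := A) (G := G)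
  RingHom.domain_isLocalRing (RG).subtype

theorem mem_maximalIdeal_fixed {r : RG} : r ∈ maximalIdeal RG ↔ (r : A) ∈ maximalIdeal A := by
  have := isLocalHom_fixed (A := A) (G := G)
  rw [mem_maximalIdeal, mem_maximalIdeal, mem_nonunits_iff, mem_nonunits_iff]
  exact not_congr (isUnit_map_iff (RG).subtype r).symm

theorem sum_smul_mem_fixed [Fintype G] (x : A) : (∑ g : G, g • x) ∈ RG := fun τ => by
  rw [Finset.smul_sum]
  refine Fintype.sum_equiv (Equiv.mulLeft τ) _ _ fun g => ?_
  rw [Equiv.coe_mulLeft, smul_smul]

theorem smul_sub_mem_of_lift (hlift : ∀ t : A, ∃ c : A, (∀ g : G, g • c = c) ∧ t - c ∈ maximalIdeal A)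
    (g : G) (t : A) : g • t - t ∈ maximalIdeal A := by
  obtain ⟨c, hc, htc⟩ := hlift t
  rw [show g • t - t = g • (t - c) - (t - c) by rw [smul_sub, hc]; ring]
  exact sub_mem (smul_mem_maximalIdeal g htc) htc

theorem two_le_height_maximalIdeal (hdim : 2 ≤ ringKrullDim A) : (2 : ℕ∞) ≤ (maximalIdeal A).height := by
  rw [← maximalIdeal_height_eq_ringKrullDim] at hdim
  exact WithBot.coe_le_coe.1 hdim

theorem ne_maximalIdeal_bot (hdim : 2 ≤ ringKrullDim A) : (⊥ : Ideal A) ≠ maximalIdeal A := by
  intro h
  have h1 := (isRegularLocalRing_iff A).1 inferInstance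
  rw [← h, Submodule.spanFinrank_bot] at h1
  rw [← h1] at hdim
  exact absurd hdim (by decide)

/-- Without ramification outside the origin, no parameter is fixed. -/
theorem smul_ne_of_notMem_sq
    (hlift : ∀ t : A, ∃ c : A, (∀ g : G, g • c = c) ∧ t - c ∈ maximalIdeal A)
    (hram : ∀ P : Ideal A, P.IsPrime → P ≠ maximalIdeal A → P.inertia G = ⊥)
    {σ : G} (hσ : σ ≠ 1) {v : A} (hv : v ∈ maximalIdeal A) (hv2 : v ∉ maximalIdeal A ^ 2) :
    σ • v ≠ v := by
  classical
  intro hfix
  obtain ⟨s, hs, hsm⟩ :=
    CommAlgDim.exists_span_insert (IsNoetherian.noetherian (maximalIdeal A)) hv (by rwa [← sq])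
  set m := maximalIdeal A with hm
  set J0 := Ideal.span ((s.image fun t => σ • t - t : Finset A) : Set A) with hJ0def
  set J := Ideal.span (Set.range fun t : A => σ • t - t) with hJdef
  have hJm : J ≤ m := Ideal.span_le.2 (by rintro _ ⟨t, rfl⟩; exact smul_sub_mem_of_lift hlift σ t)
  have hJ0J : J0 ≤ J := Ideal.span_mono (by
    rw [Finset.coe_image]
    exact Set.image_subset_range _ _)
  have key : ∀ t ∈ m, σ • t - t ∈ J0 ⊔ m • J := by
    intro t ht
    rw [hsm] at ht
    induction ht using Submodule.span_induction with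
    | mem x hx =>
      rcases hx with rfl | hx
      · rw [hfix, sub_self]; exact zero_mem _
      · exact Ideal.mem_sup_left (Ideal.subset_span (Finset.mem_coe.2 (Finset.mem_image_of_mem _ hx)))
    | zero => rw [smul_zero, sub_zero]; exact zero_mem _
    | add x y _ _ hx hy => rw [smul_add, add_sub_add_comm]; exact add_mem hx hy
    | smul r x hx hDx =>
      show σ • (r * x) - r * x ∈ J0 ⊔ m • J
      rw [show σ • (r * x) - r * x = σ • r * (σ • x - x) + (σ • r - r) * x by
        rw [smul_mul']; ring]
      refine add_mem (Ideal.mul_mem_left _ _ hDx) (Ideal.mem_sup_right ?_)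
      rw [mul_comm, smul_eq_mul]
      exact Ideal.mul_mem_mul (hsm.ge hx) (Ideal.subset_span ⟨r, rfl⟩)
  have hJ : J ≤ J0 := by
    refine Submodule.le_of_le_smul_of_le_jacobson_bot (IsNoetherian.noetherian J)
      (jacobson_eq_maximalIdeal ⊥ bot_ne_top).ge (Ideal.span_le.2 ?_)
    rintro _ ⟨t, rfl⟩
    obtain ⟨c, hc, htc⟩ := hlift t
    have h2 : σ • t - t = σ • (t - c) - (t - c) := by rw [smul_sub, hc]; ring
    show σ • t - t ∈ J0 ⊔ m • J
    rw [h2]
    exact key _ htc
  have hmin : m ∈ J0.minimalPrimes := by
    refine ⟨⟨(maximalIdeal.isMaximal A).isPrime, hJ0J.trans hJm⟩, fun Q hQ hQm => ?_⟩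
    by_contra hne
    have hQne : Q ≠ m := fun h => hne h.ge
    have hmem : σ ∈ Q.inertia G := fun t => hQ.2 (hJ (Ideal.subset_span ⟨t, rfl⟩))
    rw [hram Q hQ.1 hQne, Subgroup.mem_bot] at hmem
    exact hσ hmem
  have h1 : m.height ≤ (s.image fun t => σ • t - t).card :=
    Ideal.height_le_card_of_mem_minimalPrimes_span_finset hmin
  have h2 := IsRegularLocalRing.spanFinrank_maximalIdeal (R := A)
  rw [← maximalIdeal_height_eq_ringKrullDim] at h2
  have h3 : (m.spanFinrank : ℕ∞) ≤ (s.card : ℕ) := by
    have h4 : (m.spanFinrank : ℕ∞) = m.height := by exact_mod_cast h2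
    exact h4.trans_le (h1.trans (by exact_mod_cast Finset.card_image_le))
  have h5 : m.spanFinrank ≤ s.card := by exact_mod_cast h3
  omega

/-- Independence of the translates modulo any prime other than the maximal ideal. -/
theorem characters_linearIndependent
    (hram : ∀ P : Ideal A, P.IsPrime → P ≠ maximalIdeal A → P.inertia G = ⊥)
    {P : Ideal A} [hP : P.IsPrime] (hPm : P ≠ maximalIdeal A)
    (L : Type u) [CommRing L] [IsDomain L] [Algebra A L]
    (hker : RingHom.ker (algebraMap A L) ≤ P) :
    LinearIndependent L (fun g : G => fun a : A => algebraMap A L (g • a)) := by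
  let χ : G → (A →* L) := fun h => ((algebraMap A L).comp (MulSemiringAction.toRingHom G A h)).toMonoidHom
  have hinj : Function.Injective χ := by
    intro h h' he
    have hb : ∀ b : A, h • b - h' • b ∈ P := fun b => by
      refine hker ?_
      rw [RingHom.mem_ker, map_sub, sub_eq_zero]
      exact DFunLike.congr_fun he b
    have hmem : h * h'⁻¹ ∈ P.inertia G := fun a => by
      have h1 := hb (h'⁻¹ • a)
      rw [smul_inv_smul, smul_smul] at h1
      exact h1
    rw [hram P hP hPm, Subgroup.mem_bot, mul_inv_eq_one] at hmem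
    exact hmem
  exact (linearIndependent_monoidHom A L).comp χ hinj

theorem characters_independent
    (hram : ∀ P : Ideal A, P.IsPrime → P ≠ maximalIdeal A → P.inertia G = ⊥) [Fintype G]
    {P : Ideal A} [hP : P.IsPrime] (hPm : P ≠ maximalIdeal A)
    (c : G → A) (hc : ∀ a : A, ∑ g, c g * g • a ∈ P) (g : G) : c g ∈ P := by
  have hli := characters_linearIndependent hram hPm (A ⧸ P) (by
    rw [Ideal.Quotient.algebraMap_eq, Ideal.mk_ker])
  rw [Fintype.linearIndependent_iff] at hli
  rw [← Ideal.Quotient.eq_zero_iff_mem]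
  refine hli (fun h => Ideal.Quotient.mk P (c h)) ?_ g
  funext a
  have h1 := Ideal.Quotient.eq_zero_iff_mem.2 (hc a)
  rw [map_sum] at h1
  rw [Finset.sum_apply, Pi.zero_apply, ← h1]
  exact Finset.sum_congr rfl fun h _ => by
    rw [map_mul, Pi.smul_apply, smul_eq_mul, Ideal.Quotient.algebraMap_eq]

/-- The ring is not free over the invariants. -/
theorem not_free [Finite G] [Nontrivial G]
    (hlift : ∀ t : A, ∃ c : A, (∀ g : G, g • c = c) ∧ t - c ∈ maximalIdeal A)
    (hram : ∀ P : Ideal A, P.IsPrime → P ≠ maximalIdeal A → P.inertia G = ⊥)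
    (hdim : 2 ≤ ringKrullDim A) [Module.Free RG A] [Module.Finite RG A] : False := by
  classical
  cases nonempty_fintype G
  have : IsDomain A := CommAlgDim.isDomain_of_isRegularLocalRing A
  have hindep : ∀ c : G → A, (∀ a : A, ∑ g, c g * g • a = 0) → ∀ g, c g = 0 := fun c hc g => by
    have := characters_independent hram (ne_maximalIdeal_bot hdim) c (fun a => by rw [hc a]; exact zero_mem _) g
    simpa using this
  let b := Module.finBasis RG A
  set d := Module.finrank RG A with hd
  have hexp : ∀ (c : G → A) (a : A), ∑ g, c g * g • a = ∑ i, (b.repr a i : A) * ∑ g, c g * g • b i := by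
    intro c a
    conv_lhs => rw [← b.sum_repr a]
    simp only [Finset.smul_sum, Finset.mul_sum]
    rw [Finset.sum_comm]
    refine Finset.sum_congr rfl fun i _ => Finset.sum_congr rfl fun g _ => ?_
    show c g * g • ((b.repr a i : A) * b i) = _
    rw [smul_mul', fixed_smul_eq]
    ring
  have hle : Fintype.card G ≤ d := by
    by_contra hlt
    have hnli : ¬ LinearIndependent A (fun g : G => fun i => g • b i) := fun h => by
      have := h.fintype_card_le_finrank
      rw [Module.finrank_fin_fun] at this
      omega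
    obtain ⟨c, hc, g, hg⟩ := Fintype.not_linearIndependent_iff.1 hnli
    refine hg (hindep c (fun a => ?_) g)
    rw [hexp]
    refine Finset.sum_eq_zero fun i _ => ?_
    have h1 := congrFun hc i
    rw [Finset.sum_apply, Pi.zero_apply] at h1
    simp only [Pi.smul_apply, smul_eq_mul] at h1
    rw [h1, mul_zero]
  have hge : d ≤ Fintype.card G := by
    by_contra hlt
    have hnli : ¬ LinearIndependent A (fun i : Fin d => fun g : G => g • b i) := fun h => by
      have := h.fintype_card_le_finrank
      rw [Module.finrank_fintype_fun_eq_card, Fintype.card_fin] at this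
      omega
    obtain ⟨c, hc, i, hi⟩ := Fintype.not_linearIndependent_iff.1 hnli
    have hrel : ∀ g : G, ∑ j, c j * g • b j = 0 := fun g => by
      have h1 := congrFun hc g
      rw [Finset.sum_apply, Pi.zero_apply] at h1
      simpa only [Pi.smul_apply, smul_eq_mul] using h1
    have htr : ∀ (l : A), ∑ τ : G, τ • (l * c i) = 0 := by
      intro l
      have h0 : ∑ j, (⟨∑ τ : G, τ • (l * c j), sum_smul_mem_fixed _⟩ : RG) • b j = 0 := by
        show ∑ j, (∑ τ : G, τ • (l * c j)) * b j = 0
        simp only [Finset.sum_mul]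
        rw [Finset.sum_comm]
        refine Finset.sum_eq_zero fun τ _ => ?_
        calc ∑ j, τ • (l * c j) * b j = τ • (∑ j, l * (c j * τ⁻¹ • b j)) := by
              rw [Finset.smul_sum]
              refine Finset.sum_congr rfl fun j _ => ?_
              rw [smul_mul', smul_mul', smul_mul', smul_inv_smul, mul_assoc]
          _ = 0 := by rw [← Finset.mul_sum, hrel, mul_zero, smul_zero]
      have h2 := Fintype.linearIndependent_iff.1 b.linearIndependent _ h0 i
      exact congrArg Subtype.val h2
    refine hi ?_
    have h3 := hindep (fun τ => τ • c i) (fun l => by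
      rw [← htr l]
      exact Finset.sum_congr rfl fun τ _ => by rw [smul_mul', mul_comm]) 1
    rwa [one_smul] at h3
  let e : G ≃ Fin d := Fintype.equivFinOfCardEq (le_antisymm hle hge)
  let M : Matrix G G A := Matrix.of fun σ τ => σ • b (e τ)
  set m := maximalIdeal A with hm
  have hdet : M.det ∈ m := by
    obtain ⟨σ, hσ⟩ := exists_ne (1 : G)
    rw [← Ideal.Quotient.eq_zero_iff_mem, RingHom.map_det]
    refine Matrix.det_zero_of_row_eq hσ (funext fun τ => ?_)
    show Ideal.Quotient.mk m (σ • b (e τ)) = Ideal.Quotient.mk m ((1 : G) • b (e τ))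
    rw [one_smul, Ideal.Quotient.eq]
    exact smul_sub_mem_of_lift hlift σ _
  have hnotin : ∀ P : Ideal A, P.IsPrime → P ≠ m → M.det ∉ P := by
    intro P hP hPm hmem
    rw [← Ideal.Quotient.eq_zero_iff_mem, RingHom.map_det] at hmem
    obtain ⟨v, hv0, hv⟩ := Matrix.exists_vecMul_eq_zero_iff.2 hmem
    choose c hc using fun σ => Ideal.Quotient.mk_surjective (v σ)
    refine hv0 (funext fun σ => ?_)
    rw [← hc σ, Pi.zero_apply, Ideal.Quotient.eq_zero_iff_mem]
    refine characters_independent hram hPm c (fun a => ?_) σ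
    rw [hexp]
    refine sum_mem fun i _ => Ideal.mul_mem_left _ _ ?_
    rw [← Ideal.Quotient.eq_zero_iff_mem, map_sum]
    have h1 := congrFun hv (e.symm i)
    rw [Pi.zero_apply] at h1
    rw [← h1, Matrix.vecMul, dotProduct]
    refine Finset.sum_congr rfl fun σ' _ => ?_
    rw [map_mul, hc σ']
    show _ = v σ' * Ideal.Quotient.mk P (σ' • b (e (e.symm i)))
    rw [Equiv.apply_symm_apply]
  have hmin : m ∈ (Ideal.span {M.det}).minimalPrimes := by
    refine ⟨⟨(maximalIdeal.isMaximal A).isPrime, (Ideal.span_singleton_le_iff_mem _).2 hdet⟩,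
      fun Q hQ hQm => ?_⟩
    by_contra hne
    exact hnotin Q hQ.1 (fun h => hne h.ge) (hQ.2 (Ideal.mem_span_singleton_self _))
  have h1 := Ideal.height_le_one_of_isPrincipal_of_mem_minimalPrimes (Ideal.span {M.det}) _ hmin
  exact absurd ((two_le_height_maximalIdeal hdim).trans h1) (by decide)

/-- An element of the invariants, nonzero at a given non-maximal prime, over which the ring is a
direct summand of a free module. -/
theorem exists_trace_splitting [Finite G]
    (hram : ∀ P : Ideal A, P.IsPrime → P ≠ maximalIdeal A → P.inertia G = ⊥)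
    (P : Ideal RG) [P.IsPrime] (hP : ¬ P.IsMaximal) :
    ∃ (f : RG) (N : ℕ) (c : Fin N → A) (h : A →ₗ[RG] (Fin N → RG)),
      f ∉ P ∧ ∀ x : A, (f : A) * x = ∑ j, (h x j : A) * c j := by
  classical
  cases nonempty_fintype G
  have : IsDomain A := CommAlgDim.isDomain_of_isRegularLocalRing A
  set m := maximalIdeal A with hm
  let w : A → G → A := fun a g => g • a
  let W : Submodule A (G → A) := Submodule.span A (Set.range w)
  let T : Ideal A := W.comap (LinearMap.single A (fun _ : G => A) 1)
  have hT : m ≤ T.radical := by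
    rw [Ideal.radical_eq_sInf]
    refine le_sInf fun Q ⟨hTQ, hQp⟩ => ?_
    by_contra hle
    have hQm : Q ≠ m := fun h => hle h.ge
    let L := FractionRing (A ⧸ Q)
    have hker : RingHom.ker (algebraMap A L) ≤ Q := fun x hx => by
      rw [RingHom.mem_ker, IsScalarTower.algebraMap_apply A (A ⧸ Q) L,
        IsFractionRing.to_map_eq_zero_iff] at hx
      exact Ideal.Quotient.eq_zero_iff_mem.1 hx
    have hli := characters_linearIndependent hram hQm L hker
    let wb : A → G → L := fun a g => algebraMap A L (g • a)
    have htop : Submodule.span L (Set.range wb) = ⊤ := by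
      by_contra hne
      obtain ⟨φ, hφ0, hφ⟩ := Submodule.exists_le_ker_of_lt_top _ (lt_top_iff_ne_top.2 hne)
      rw [Fintype.linearIndependent_iff] at hli
      refine hφ0 ((Pi.basisFun L G).ext fun g => ?_)
      rw [LinearMap.zero_apply, Pi.basisFun_apply]
      refine hli (fun g => φ (Pi.single g 1)) (funext fun a => ?_) g
      have h1 : φ (wb a) = 0 := hφ (Submodule.subset_span ⟨a, rfl⟩)
      rw [← Finset.univ_sum_single (wb a), map_sum] at h1
      rw [Finset.sum_apply, Pi.zero_apply, ← h1]
      refine Finset.sum_congr rfl fun g _ => ?_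
      rw [show Pi.single g (wb a g) = wb a g • (Pi.single g 1 : G → L) by
        rw [← Pi.single_smul', smul_eq_mul, mul_one], map_smul, Pi.smul_apply, smul_eq_mul,
        smul_eq_mul, mul_comm]
    obtain ⟨s, hst, hspan, hs⟩ := exists_linearIndependent L (Set.range wb)
    let B : Module.Basis s L (G → L) := Module.Basis.mk hs (by rw [Subtype.range_coe, hspan, htop])
    let e := B.indexEquiv (Pi.basisFun L G)
    choose a ha using fun g : G => hst (e.symm g).2
    let M : Matrix G G A := Matrix.of fun τ g => g • a τ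
    have hdet : algebraMap A L M.det ≠ 0 := by
      rw [RingHom.map_det]
      have hrows : LinearIndependent L (((algebraMap A L).mapMatrix M).row) := by
        have h1 : ((algebraMap A L).mapMatrix M).row = (fun x : s => (x : G → L)) ∘ e.symm :=
          funext fun τ => ha τ
        rw [h1]
        exact hs.comp _ e.symm.injective
      exact ((Matrix.isUnit_iff_isUnit_det _).1 (Matrix.linearIndependent_rows_iff_isUnit.1 hrows)).ne_zero
    have hmemT : M.det ∈ T := by
      show Pi.single (1 : G) M.det ∈ W
      have h1 : Pi.single (1 : G) M.det = ∑ τ, M.adjugate 1 τ • w (a τ) := by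
        funext g
        have h2 := congrFun (congrFun (Matrix.adjugate_mul M) 1) g
        rw [Matrix.mul_apply, Matrix.smul_apply, Matrix.one_apply, smul_eq_mul] at h2
        rw [Finset.sum_apply, Pi.single_apply]
        refine Eq.trans ?_ h2.symm
        rcases eq_or_ne g 1 with rfl | hg
        · rw [if_pos rfl, if_pos rfl, mul_one]
        · rw [if_neg hg, if_neg hg.symm, mul_zero]
      rw [h1]
      exact sum_mem fun τ _ => Submodule.smul_mem _ _ (Submodule.subset_span ⟨a τ, rfl⟩)
    exact hdet (by
      rw [IsScalarTower.algebraMap_apply A (A ⧸ Q) L, Ideal.Quotient.algebraMap_eq,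
        Ideal.Quotient.eq_zero_iff_mem.2 (hTQ hmemT), map_zero])
  have hJP : ¬ maximalIdeal RG ≤ P := fun h =>
    hP ((maximalIdeal.isMaximal RG).eq_of_le ‹P.IsPrime›.ne_top h ▸ maximalIdeal.isMaximal RG)
  obtain ⟨r, hr, hrP⟩ := SetLike.not_le_iff_exists.1 hJP
  obtain ⟨k, hk⟩ := hT (mem_maximalIdeal_fixed.1 hr)
  have hk' : Pi.single (1 : G) ((r : A) ^ k) ∈ W := hk
  obtain ⟨c₀, hc₀⟩ := Finsupp.mem_span_range_iff_exists_finsupp.1 hk'
  let e := (Finset.equivFin c₀.support).symm
  let h : A →ₗ[RG] (Fin c₀.support.card → RG) :=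
    LinearMap.pi fun j =>
      { toFun := fun x => ⟨∑ g : G, g • ((e j : A) * x), sum_smul_mem_fixed _⟩
        map_add' := fun x y => Subtype.ext (by
          show ∑ g : G, g • ((e j : A) * (x + y)) = _ + _
          simp [mul_add, Finset.sum_add_distrib])
        map_smul' := fun q x => Subtype.ext (by
          show ∑ g : G, g • ((e j : A) * ((q : A) * x)) = (q : A) * _
          rw [Finset.mul_sum]
          refine Finset.sum_congr rfl fun g _ => ?_
          rw [show (e j : A) * ((q : A) * x) = (q : A) * ((e j : A) * x) by ring, smul_mul',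
            fixed_smul_eq]) }
  refine ⟨r ^ k, _, fun j => c₀ (e j : A), h,
    fun hmem => hrP (‹P.IsPrime›.mem_of_pow_mem k hmem), fun x => ?_⟩
  have hδ : ∀ g : G, (if g = 1 then (r : A) ^ k else 0) = ∑ a ∈ c₀.support, c₀ a * g • a := fun g => by
    have h1 := congrFun hc₀ g
    rw [Pi.single_apply] at h1
    rw [← h1, Finsupp.sum, Finset.sum_apply]
    rfl
  calc ((r ^ k : RG) : A) * x = ∑ g : G, (if g = 1 then (r : A) ^ k else 0) * g • x := by
        simp only [ite_mul, zero_mul, Finset.sum_ite_eq', Finset.mem_univ, if_true, one_smul,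
          SubmonoidClass.coe_pow]
    _ = ∑ a ∈ c₀.support, c₀ a * ∑ g : G, g • (a * x) := by
        simp only [hδ, Finset.sum_mul, Finset.mul_sum]
        rw [Finset.sum_comm]
        exact Finset.sum_congr rfl fun a _ => Finset.sum_congr rfl fun g _ => by rw [smul_mul']; ring
    _ = ∑ j, (h x j : A) * c₀ (e j : A) := by
        rw [← Finset.sum_coe_sort, ← e.sum_comp]
        exact Finset.sum_congr rfl fun j _ => mul_comm _ _

/-- The invariants are regular at every prime other than the maximal one. -/
theorem isRegularLocalRing_localization_fixed [Finite G] [IsNoetherianRing RG] [Module.Finite RG A]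
    (hram : ∀ P : Ideal A, P.IsPrime → P ≠ maximalIdeal A → P.inertia G = ⊥)
    (P : Ideal RG) [P.IsPrime] (hP : ¬ P.IsMaximal) :
    IsRegularLocalRing (Localization.AtPrime P) := by
  classical
  have : IsDomain A := CommAlgDim.isDomain_of_isRegularLocalRing A
  obtain ⟨f, N, c, h, hf, hsplit⟩ := exists_trace_splitting hram P hP
  obtain ⟨Q, -, hQ, hQP⟩ := Ideal.exists_ideal_over_prime_of_isIntegral (S := A) P ⊥ (by
    intro z hz
    rw [Ideal.mem_comap, Ideal.mem_bot] at hz
    rw [show z = 0 from Subtype.ext hz]
    exact zero_mem _)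
  let S := Localization.AtPrime Q
  have := CommAlgDim.isRegularLocalRing_localization A Q
  have hfQ : (f : A) ∈ Q.primeCompl := fun hmem => hf (hQP ▸ hmem)
  have hflat : Module.Flat RG S := by
    rw [Module.Flat.iff_forall_isTrivialRelation]
    intro l r x hx
    obtain ⟨s, hs⟩ := IsLocalization.exist_integer_multiples Q.primeCompl Finset.univ x
    choose a ha using fun i => hs i (Finset.mem_univ i)
    have hrel : ∑ i, r i • a i = (0 : A) := by
      refine IsLocalization.injective S Q.primeCompl_le_nonZeroDivisors ?_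
      rw [map_zero, map_sum]
      calc ∑ i, algebraMap A S (r i • a i) = ∑ i, r i • ((s : A) • x i) :=
            Finset.sum_congr rfl fun i _ => by
              rw [← IsScalarTower.algebraMap_smul A (r i) (a i), smul_eq_mul, map_mul, ha i,
                ← IsScalarTower.algebraMap_smul A (r i) ((s : A) • x i), Algebra.smul_def, Algebra.smul_def]
        _ = (s : A) • ∑ i, r i • x i := by
            rw [Finset.smul_sum]
            exact Finset.sum_congr rfl fun i _ => smul_comm _ _ _
        _ = 0 := by rw [hx, smul_zero]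
    let u : Q.primeCompl := s * ⟨(f : A), hfQ⟩
    refine ⟨N, fun i j => h (a i) j, fun j => IsLocalization.mk' S (c j) u, fun i => ?_, fun j => ?_⟩
    · have hu : IsUnit (algebraMap A S (u : A)) := IsLocalization.map_units S u
      refine hu.mul_left_cancel ?_
      calc algebraMap A S (u : A) * x i = algebraMap A S ((f : A) * a i) := by
            rw [map_mul, ha i, Algebra.smul_def]
            simp only [u, Submonoid.coe_mul, map_mul]
            ring
        _ = algebraMap A S (∑ j, (h (a i) j : A) * c j) := by rw [hsplit]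
        _ = _ := by
            rw [map_sum, Finset.mul_sum]
            refine Finset.sum_congr rfl fun j _ => ?_
            rw [← IsScalarTower.algebraMap_smul A (h (a i) j), Algebra.smul_def, map_mul,
              mul_left_comm, IsLocalization.mk'_spec']
            rfl
    · have h1 := congrFun (congrArg h hrel) j
      rw [map_sum, map_zero, Finset.sum_apply, Pi.zero_apply] at h1
      simpa only [map_smul, Pi.smul_apply, smul_eq_mul] using h1
  let ρ := Localization.localRingHom P Q (algebraMap RG A) hQP.symm
  let _ : Algebra (Localization.AtPrime P) S := ρ.toAlgebra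
  have : IsScalarTower RG (Localization.AtPrime P) S := IsScalarTower.of_algebraMap_eq fun z =>
    (Localization.localRingHom_to_map P Q _ hQP.symm z).symm
  have : IsLocalHom (algebraMap (Localization.AtPrime P) S) :=
    Localization.isLocalHom_localRingHom P Q _ hQP.symm
  have : Module.Flat (Localization.AtPrime P) S :=
    (Module.flat_iff_of_isLocalization (Localization.AtPrime P) P.primeCompl S).2 hflat
  exact RegFlatLib.isRegularLocalRing_of_flat (Localization.AtPrime P) S

end WildQuotLib
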