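import Groth.Agent.CommAlgDim.Regular
import Mathlib.RingTheory.Ideal.Cotangent
import Mathlib.RingTheory.Ideal.KrullsHeightTheorem
import Mathlib.Algebra.Module.SpanRankOperations
import Mathlib.GroupTheory.PGroup
import Mathlib.GroupTheory.FiniteAbelian.Basic
import Mathlib.Algebra.Ring.Action.Basic

/-!
# Admissible systems of parameters for a finite group action
-/

set_option autoImplicit false

universe u v

open IsLocalRing

namespace WildQuotLib

variable {A : Type u} [CommRing A] [IsLocalRing A] {G : Type v} [Group G] [MulSemiringAction G A]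

theorem smul_mem_maximalIdeal (g : G) {x : A} (hx : x ∈ maximalIdeal A) : g • x ∈ maximalIdeal A := by
  rw [mem_maximalIdeal, mem_nonunits_iff] at hx ⊢
  intro h
  refine hx ?_
  have h1 := h.map (MulSemiringAction.toRingHom G A g⁻¹)
  simpa using h1

theorem smul_mem_sq (g : G) {x : A} (hx : x ∈ maximalIdeal A ^ 2) : g • x ∈ maximalIdeal A ^ 2 := by
  have h : (maximalIdeal A).map (MulSemiringAction.toRingHom G A g) ≤ maximalIdeal A :=
    Ideal.map_le_iff_le_comap.2 fun y hy => smul_mem_maximalIdeal g hy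
  have h2 := Ideal.mem_map_of_mem (MulSemiringAction.toRingHom G A g) hx
  rw [Ideal.map_pow] at h2
  exact Ideal.pow_right_mono h 2 h2

omit [IsLocalRing A] in
theorem mem_span_image_sup {ι : Type*} {u : ι → A} {S T : Set ι} {J : Ideal A} (h : S ⊆ T) {x : A}
    (hx : x ∈ Ideal.span (u '' S) ⊔ J) : x ∈ Ideal.span (u '' T) ⊔ J :=
  (sup_le_sup_right (Ideal.span_mono (Set.image_mono h)) J : Ideal.span (u '' S) ⊔ J ≤ _) hx

theorem maximalIdeal_le_radical_iff [Fintype G] {n : ℕ} (u : Fin n → A)
    (hu : Ideal.span (Set.range u) = maximalIdeal A) :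
    maximalIdeal A ≤ (Ideal.span (Set.range fun i => ∏ g : G, g • u i)).radical ↔
      ∀ τ : Fin n → G, maximalIdeal A ≤ (Ideal.span (Set.range fun i => τ i • u i)).radical := by
  constructor
  · intro h τ
    refine h.trans (Ideal.radical_mono (Ideal.span_le.2 ?_))
    rintro _ ⟨i, rfl⟩
    exact (Ideal.span _).mem_of_dvd (Finset.dvd_prod_of_mem (fun g => g • u i) (Finset.mem_univ (τ i)))
      (Ideal.subset_span ⟨i, rfl⟩)
  · intro h
    rw [Ideal.radical_eq_sInf]
    refine le_sInf fun P ⟨hP, hPp⟩ => ?_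
    have hsel : ∀ i, ∃ g : G, g • u i ∈ P := fun i => by
      obtain ⟨g, -, hg⟩ := (hPp.prod_mem_iff).1 (hP (Ideal.subset_span ⟨i, rfl⟩))
      exact ⟨g, hg⟩
    choose τ hτ using hsel
    refine (h τ).trans (hPp.radical_le_iff.2 (Ideal.span_le.2 ?_))
    rintro _ ⟨i, rfl⟩
    exact hτ i

variable [IsNoetherianRing A] {n : ℕ}

theorem not_weaklyAdmissible (hn : ringKrullDim A = n) (u : Fin n → A)
    (hu : Ideal.span (Set.range u) = maximalIdeal A) (σ : G) (i : Fin n)
    (hσ : σ • u i ∈ Ideal.span (u '' {j | j ≠ i})) :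
    ∃ τ : Fin n → G, ¬ maximalIdeal A ≤ (Ideal.span (Set.range fun j => τ j • u j)).radical := by
  classical
  refine ⟨fun j => if j = i then σ else 1, fun h => ?_⟩
  have hle : maximalIdeal A ≤ (Ideal.span (u '' {j | j ≠ i})).radical := by
    refine h.trans (Ideal.radical_mono (Ideal.span_le.2 ?_))
    rintro _ ⟨j, rfl⟩
    show (if j = i then σ else 1) • u j ∈ _
    rcases eq_or_ne j i with rfl | hj
    · rw [if_pos rfl]; exact hσ
    · rw [if_neg hj, one_smul]; exact Ideal.subset_span ⟨j, hj, rfl⟩
  have hJ : Ideal.span (u '' {j | j ≠ i}) ≤ maximalIdeal A :=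
    hu ▸ Ideal.span_mono (Set.image_subset_range _ _)
  have hmin : maximalIdeal A ∈ (Ideal.span (u '' {j | j ≠ i})).minimalPrimes :=
    ⟨⟨inferInstance, hJ⟩, fun Q hQ _ => hle.trans (hQ.1.radical_le_iff.2 hQ.2)⟩
  have hfin : (u '' {j | j ≠ i}).Finite := Set.toFinite _
  have h1 := Ideal.height_le_card_of_mem_minimalPrimes_span hfin hmin
  have h2 : (u '' {j | j ≠ i}).ncard ≤ n - 1 := by
    refine (Set.ncard_image_le (Set.toFinite _)).trans ?_
    rw [show {j : Fin n | j ≠ i} = ({i} : Set (Fin n))ᶜ from rfl, Set.ncard_compl, Set.ncard_singleton,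
      Nat.card_eq_fintype_card, Fintype.card_fin]
  rw [← maximalIdeal_height_eq_ringKrullDim] at hn
  have h3 : (maximalIdeal A).height = (n : ℕ∞) := by exact_mod_cast hn
  rw [h3] at h1
  have h4 : n ≤ (u '' {j | j ≠ i}).ncard := by exact_mod_cast h1
  have := i.pos
  omega

omit [Group G] [MulSemiringAction G A] in
/-- Minimal generators of the maximal ideal: none lies in the ideal of the others plus the square. -/
theorem notMem_of_minimal (hfin : (maximalIdeal A).spanFinrank = n) (u : Fin n → A)
    (hu : Ideal.span (Set.range u) = maximalIdeal A) (i : Fin n) :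
    u i ∉ Ideal.span (u '' {j | j ≠ i}) ⊔ maximalIdeal A ^ 2 := by
  intro hmem
  have hJ : Ideal.span (u '' {j | j ≠ i}) ≤ maximalIdeal A :=
    hu ▸ Ideal.span_mono (Set.image_subset_range _ _)
  have hle : maximalIdeal A ≤ Ideal.span (u '' {j | j ≠ i}) := by
    refine Submodule.le_of_le_smul_of_le_jacobson_bot (IsNoetherian.noetherian _)
      (jacobson_eq_maximalIdeal ⊥ bot_ne_top).ge ?_
    rw [smul_eq_mul, ← pow_two]
    nth_rw 1 [← hu]
    refine Ideal.span_le.2 ?_
    rintro _ ⟨j, rfl⟩
    rcases eq_or_ne j i with rfl | hj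
    · exact hmem
    · exact Ideal.mem_sup_left (Ideal.subset_span ⟨j, hj, rfl⟩)
  have h1 : (maximalIdeal A).spanFinrank ≤ (u '' {j | j ≠ i}).ncard := by
    rw [le_antisymm hle hJ]
    exact Submodule.spanFinrank_span_le_ncard_of_finite (Set.toFinite _)
  have h2 : (u '' {j | j ≠ i}).ncard ≤ n - 1 := by
    refine (Set.ncard_image_le (Set.toFinite _)).trans ?_
    rw [show {j : Fin n | j ≠ i} = ({i} : Set (Fin n))ᶜ from rfl, Set.ncard_compl, Set.ncard_singleton,
      Nat.card_eq_fintype_card, Fintype.card_fin]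
  have := i.pos
  omega

theorem admissible_of_triangular (hfin : (maximalIdeal A).spanFinrank = n) (u : Fin n → A)
    (hu : Ideal.span (Set.range u) = maximalIdeal A)
    (htri : ∀ (σ : G) (i : Fin n), σ • u i ∈ Ideal.span (u '' {j | j ≤ i}) ⊔ maximalIdeal A ^ 2)
    (τ : Fin n → G) : Ideal.span (Set.range fun i => τ i • u i) = maximalIdeal A := by
  set m := maximalIdeal A
  have hstab : ∀ (g : G) (S : Set (Fin n)), (∀ j ∈ S, ∀ l, l ≤ j → l ∈ S) →
      ∀ x ∈ Ideal.span (u '' S) ⊔ m ^ 2, g • x ∈ Ideal.span (u '' S) ⊔ m ^ 2 := by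
    intro g S hS x hx
    have h : (Ideal.span (u '' S) ⊔ m ^ 2).map (MulSemiringAction.toRingHom G A g) ≤
        Ideal.span (u '' S) ⊔ m ^ 2 := by
      rw [Ideal.map_sup, Ideal.map_span]
      refine sup_le (Ideal.span_le.2 ?_) (Ideal.map_le_iff_le_comap.2 fun y hy =>
        Ideal.mem_sup_right (smul_mem_sq g hy))
      rintro _ ⟨_, ⟨j, hj, rfl⟩, rfl⟩
      exact mem_span_image_sup (fun l hl => hS j hj l hl) (htri g j)
    exact h (Ideal.mem_map_of_mem _ hx)
  have key : ∀ i : Fin n, u i ∈ Ideal.span (Set.range fun i => τ i • u i) ⊔ m ^ 2 := by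
    intro i
    induction hi : (i : ℕ) using Nat.strong_induction_on generalizing i with
    | _ k ih =>
      subst hi
      have hmem := htri (τ i) i
      have hsplit : {j : Fin n | j ≤ i} = insert i {j : Fin n | j < i} := by
        ext j; simp [le_iff_eq_or_lt]
      rw [hsplit, Set.image_insert_eq, Ideal.span_insert, sup_assoc] at hmem
      obtain ⟨y, hy, r, hr, hyr⟩ := Submodule.mem_sup.1 hmem
      obtain ⟨d, rfl⟩ := Ideal.mem_span_singleton'.1 hy
      have hd : IsUnit d := by
        by_contra hd
        have hdm : d ∈ m := by rwa [mem_maximalIdeal, mem_nonunits_iff]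
        have hui : u i ∈ m := by
          have h0 : u i ∈ Ideal.span (Set.range u) := Ideal.subset_span ⟨i, rfl⟩
          rwa [hu] at h0
        have h1 : τ i • u i ∈ Ideal.span (u '' {j | j < i}) ⊔ m ^ 2 := by
          rw [← hyr]
          refine add_mem (Ideal.mem_sup_right ?_) hr
          rw [pow_two]
          exact Ideal.mul_mem_mul hdm hui
        have h2 := hstab (τ i)⁻¹ {j | j < i} (fun j hj l hl => lt_of_le_of_lt hl hj) _ h1
        rw [inv_smul_smul] at h2
        exact notMem_of_minimal hfin u hu i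
          (mem_span_image_sup (fun j (hj : j < i) => hj.ne) h2)
      have hr' : r ∈ Ideal.span (Set.range fun i => τ i • u i) ⊔ m ^ 2 := by
        have hle' : Ideal.span (u '' {j | j < i}) ⊔ m ^ 2 ≤
            Ideal.span (Set.range fun i => τ i • u i) ⊔ m ^ 2 := by
          refine sup_le (Ideal.span_le.2 ?_) le_sup_right
          rintro _ ⟨j, hj, rfl⟩
          exact ih (j : ℕ) hj j rfl
        exact hle' hr
      rw [← Ideal.unit_mul_mem_iff_mem _ hd, eq_sub_iff_add_eq.2 hyr]
      exact sub_mem (Ideal.mem_sup_left (Ideal.subset_span ⟨i, rfl⟩)) hr'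
  have hJm : Ideal.span (Set.range fun i => τ i • u i) ≤ m := Ideal.span_le.2 (by
    rintro _ ⟨i, rfl⟩
    refine smul_mem_maximalIdeal _ ?_
    have h0 : u i ∈ Ideal.span (Set.range u) := Ideal.subset_span ⟨i, rfl⟩
    rwa [hu] at h0)
  refine le_antisymm hJm (Submodule.le_of_le_smul_of_le_jacobson_bot (IsNoetherian.noetherian _)
    (jacobson_eq_maximalIdeal ⊥ bot_ne_top).ge ?_)
  rw [smul_eq_mul, ← pow_two]
  conv_lhs => rw [← hu]
  refine Ideal.span_le.2 ?_
  rintro _ ⟨i, rfl⟩
  exact key i

variable {p : ℕ} [hp : Fact p.Prime] [CharP A p] [Finite G]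

omit [IsLocalRing A] [IsNoetherianRing A] in
/-- A `p`-group acting unipotently fixes a new element modulo a stable ideal. -/
theorem exists_fixed_mod (hG : IsPGroup p G) (M U : Ideal A) (hU : ∀ (g : G), ∀ x ∈ U, g • x ∈ U)
    (hM : ∀ (g : G), ∀ x ∈ M, g • x ∈ M) {x : A} (hxM : x ∈ M) (hxU : x ∉ U) :
    ∃ y ∈ M, y ∉ U ∧ ∀ g : G, g • y - y ∈ U := by
  classical
  have := Fintype.ofFinite G
  let Q := A ⧸ U
  let act : G → Q →+* Q := fun g => Ideal.quotientMap U (MulSemiringAction.toRingHom G A g) (fun z hz => hU g z hz)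
  have hact : ∀ g z, act g (Ideal.Quotient.mk U z) = Ideal.Quotient.mk U (g • z) := fun g z =>
    Ideal.quotientMap_mk
  let S : AddSubgroup Q := AddSubgroup.closure (Set.range fun g : G => Ideal.Quotient.mk U (g • x))
  have hS : ∀ g, ∀ z ∈ S, act g z ∈ S := by
    intro g z hz
    induction hz using AddSubgroup.closure_induction with
    | mem w hw =>
      obtain ⟨h, rfl⟩ := hw
      rw [hact, ← mul_smul]
      exact AddSubgroup.subset_closure ⟨g * h, rfl⟩
    | zero => rw [map_zero]; exact zero_mem _
    | add w w' _ _ h h' => rw [map_add]; exact add_mem h h'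
    | neg w _ h => rw [map_neg]; exact neg_mem h
  letI : MulAction G S :=
    { smul := fun g z => ⟨act g z.1, hS g z.1 z.2⟩
      one_smul := fun z => Subtype.ext (by
        obtain ⟨w, hw⟩ := Ideal.Quotient.mk_surjective z.1
        show act 1 z.1 = z.1
        rw [← hw, hact, one_smul])
      mul_smul := fun g h z => Subtype.ext (by
        obtain ⟨w, hw⟩ := Ideal.Quotient.mk_surjective z.1
        show act (g * h) z.1 = act g (act h z.1)
        rw [← hw, hact, hact, hact, mul_smul]) }
  have htor : ∀ z : S, p • z = 0 := fun z => Subtype.ext (by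
    obtain ⟨w, hw⟩ := Ideal.Quotient.mk_surjective z.1
    show p • z.1 = 0
    rw [← hw, ← map_nsmul, nsmul_eq_mul, CharP.cast_eq_zero, zero_mul, map_zero])
  have : AddGroup.FG S := (AddGroup.fg_iff_addSubgroup_fg S).2 ⟨Finset.univ.image fun g : G =>
    Ideal.Quotient.mk U (g • x), by simp [S]⟩
  have : Finite S := by
    have : Module.Finite ℤ S := Module.Finite.iff_addGroup_fg.2 this
    refine Module.finite_of_fg_torsion S (fun {z} => ⟨⟨(p : ℤ), mem_nonZeroDivisors_of_ne_zero (by exact_mod_cast hp.out.ne_zero)⟩, ?_⟩)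
    show (p : ℤ) • z = 0
    rw [natCast_zsmul, htor z]
  let x₀ : S := ⟨Ideal.Quotient.mk U x, AddSubgroup.subset_closure ⟨1, by simp⟩⟩
  have hx₀ : x₀ ≠ 0 := fun h => hxU (Ideal.Quotient.eq_zero_iff_mem.1 (congrArg Subtype.val h))
  have hdvd : p ∣ Nat.card S := by
    have h1 : addOrderOf x₀ = p := addOrderOf_eq_prime (htor x₀) hx₀
    exact h1 ▸ addOrderOf_dvd_natCard x₀
  obtain ⟨b, hb, hb0⟩ := hG.exists_fixed_point_of_prime_dvd_card_of_fixed_point S hdvd (a := 0)
    (fun g => Subtype.ext (map_zero (act g)))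
  have hSM : ∀ z ∈ S, z ∈ M.map (Ideal.Quotient.mk U) := fun z hz =>
    (AddSubgroup.closure_le (K := (M.map (Ideal.Quotient.mk U)).toAddSubgroup)).2
      (by rintro _ ⟨g, rfl⟩; exact Ideal.mem_map_of_mem _ (hM g x hxM)) hz
  obtain ⟨y, hyM, hy⟩ := (Ideal.mem_map_iff_of_surjective _ Ideal.Quotient.mk_surjective).1 (hSM b.1 b.2)
  refine ⟨y, hyM, fun hyU => hb0 (Subtype.ext ?_), fun g => ?_⟩
  · rw [← hy, Ideal.Quotient.eq_zero_iff_mem.2 hyU]; rfl
  · rw [← Ideal.Quotient.eq, ← hact, hy]
    exact congrArg Subtype.val (hb g)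

/-- Triangular systems of parameters exist for `p`-groups. -/
theorem exists_admissible (hG : IsPGroup p G) (hfin : (maximalIdeal A).spanFinrank = n) :
    ∃ u : Fin n → A, Ideal.span (Set.range u) = maximalIdeal A ∧
      ∀ (σ : G) (i : Fin n), σ • u i ∈ Ideal.span (u '' {j | j ≤ i}) ⊔ maximalIdeal A ^ 2 := by
  classical
  set m := maximalIdeal A with hm
  have hsq : m ^ 2 ≤ m := Ideal.pow_le_self two_ne_zero
  have step : ∀ k, k ≤ n → ∃ u : Fin k → A, (∀ i, u i ∈ m) ∧
      (∀ (σ : G) (i : Fin k), σ • u i - u i ∈ Ideal.span (u '' {j | j < i}) ⊔ m ^ 2) ∧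
      ∀ i, u i ∉ Ideal.span (u '' {j | j < i}) ⊔ m ^ 2 := by
    intro k
    induction k with
    | zero => exact fun _ => ⟨fun i => i.elim0, fun i => i.elim0, fun _ i => i.elim0, fun i => i.elim0⟩
    | succ k ih =>
      intro hk
      obtain ⟨u, hum, hfix, hind⟩ := ih (by omega)
      set U := Ideal.span (Set.range u) ⊔ m ^ 2 with hUdef
      have hle : ∀ i : Fin k, Ideal.span (u '' {j | j < i}) ⊔ m ^ 2 ≤ U := fun i =>
        sup_le_sup_right (Ideal.span_mono (Set.image_subset_range _ _)) _
      have hstab : ∀ (g : G), ∀ z ∈ U, g • z ∈ U := by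
        intro g z hz
        have h : U.map (MulSemiringAction.toRingHom G A g) ≤ U := by
          rw [hUdef, Ideal.map_sup, Ideal.map_span]
          refine sup_le (Ideal.span_le.2 ?_) (Ideal.map_le_iff_le_comap.2 fun w hw =>
            Ideal.mem_sup_right (smul_mem_sq g hw))
          rintro _ ⟨_, ⟨i, rfl⟩, rfl⟩
          show g • u i ∈ U
          rw [← sub_add_cancel (g • u i) (u i)]
          exact add_mem (hle i (hfix g i)) (Ideal.mem_sup_left (Ideal.subset_span ⟨i, rfl⟩))
        exact h (Ideal.mem_map_of_mem _ hz)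
      have hlt : ¬ m ≤ U := by
        intro hmU
        have h1 : m ≤ Ideal.span (Set.range u) := by
          refine Submodule.le_of_le_smul_of_le_jacobson_bot (IsNoetherian.noetherian _)
            (jacobson_eq_maximalIdeal ⊥ bot_ne_top).ge ?_
          rw [smul_eq_mul, ← pow_two]
          exact hmU
        have h2 : m.spanFinrank ≤ k := by
          rw [le_antisymm h1 (Ideal.span_le.2 (by rintro _ ⟨i, rfl⟩; exact hum i))]
          refine (Submodule.spanFinrank_span_le_ncard_of_finite (Set.finite_range _)).trans ?_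
          rw [← Set.image_univ]
          exact (Set.ncard_image_le Set.finite_univ).trans (by simp)
        omega
      obtain ⟨x, hxm, hxU⟩ := SetLike.not_le_iff_exists.1 hlt
      obtain ⟨y, hym, hyU, hyfix⟩ := exists_fixed_mod hG m U hstab
        (fun g z hz => smul_mem_maximalIdeal g hz) hxm hxU
      have himg : ∀ i : Fin k, Fin.snoc (α := fun _ => A) u y '' {j | j < i.castSucc} = u '' {j | j < i} := by
        intro i
        ext w
        constructor
        · rintro ⟨j, hj, rfl⟩
          induction j using Fin.lastCases with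
          | last => exact absurd hj (fun h => absurd (h.trans (Fin.castSucc_lt_last i)) (lt_irrefl _))
          | cast j => exact ⟨j, by simpa using hj, by simp⟩
        · rintro ⟨j, hj, rfl⟩
          exact ⟨j.castSucc, by simpa using hj, by simp⟩
      have himg' : Fin.snoc (α := fun _ => A) u y '' {j | j < Fin.last k} = Set.range u := by
        ext w
        constructor
        · rintro ⟨j, hj, rfl⟩
          induction j using Fin.lastCases with
          | last => exact absurd (show Fin.last k < Fin.last k from hj) (lt_irrefl _)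
          | cast j => exact ⟨j, by simp⟩
        · rintro ⟨j, rfl⟩
          exact ⟨j.castSucc, Fin.castSucc_lt_last j, by simp⟩
      refine ⟨Fin.snoc u y, ?_, ?_, ?_⟩
      · intro i; induction i using Fin.lastCases with
        | last => simpa using hym
        | cast i => simpa using hum i
      · intro σ i; induction i using Fin.lastCases with
        | last => rw [himg', Fin.snoc_last]; exact hyfix σ
        | cast i => rw [himg, Fin.snoc_castSucc]; exact hfix σ i
      · intro i; induction i using Fin.lastCases with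
        | last => rw [himg', Fin.snoc_last]; exact hyU
        | cast i => rw [himg, Fin.snoc_castSucc]; exact hind i
  obtain ⟨u, hum, hfix, hind⟩ := step n le_rfl
  have hspan : Ideal.span (Set.range u) = m := by
    let v : Fin n → CotangentSpace A := fun i => m.toCotangent ⟨u i, hum i⟩
    have hli : LinearIndependent (ResidueField A) v := by
      rw [Fintype.linearIndependent_iff]
      intro g hg
      by_contra hne
      push Not at hne
      obtain ⟨i₀, hi₀, hmax⟩ := Finset.exists_max_image (Finset.univ.filter fun i => g i ≠ 0) id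
        (by obtain ⟨i, hi⟩ := hne; exact ⟨i, by simpa using hi⟩)
      simp only [Finset.mem_filter, Finset.mem_univ, true_and, id] at hi₀ hmax
      choose c hc using fun i => residue_surjective (g i)
      have hsum : m.toCotangent (∑ i, c i • (⟨u i, hum i⟩ : m)) = 0 := by
        rw [map_sum, ← hg]
        exact Finset.sum_congr rfl fun i _ => by rw [map_smul, ← hc i]; rfl
      rw [Ideal.toCotangent_eq_zero] at hsum
      simp only [Submodule.coe_sum, Submodule.coe_smul_of_tower, smul_eq_mul] at hsum
      rw [← Finset.add_sum_erase _ _ (Finset.mem_univ i₀)] at hsum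
      have hci : IsUnit (c i₀) := by
        by_contra h
        refine hi₀ ?_
        rw [← hc i₀, residue_eq_zero_iff]
        exact h
      refine hind i₀ ((Ideal.unit_mul_mem_iff_mem _ hci).1 ?_)
      have hrest : ∑ i ∈ Finset.univ.erase i₀, c i * u i ∈ Ideal.span (u '' {j | j < i₀}) ⊔ m ^ 2 := by
        refine Submodule.sum_mem _ fun i hi => ?_
        rcases lt_or_gt_of_ne (Finset.ne_of_mem_erase hi) with hlt | hgt
        · exact Ideal.mem_sup_left (Ideal.mul_mem_left _ _ (Ideal.subset_span ⟨i, hlt, rfl⟩))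
        · have hgi : g i = 0 := by
            by_contra h
            exact absurd (hmax i h) (not_le.2 hgt)
          refine Ideal.mem_sup_right ?_
          rw [pow_two]
          refine Ideal.mul_mem_mul ?_ (hum i)
          rw [← residue_eq_zero_iff, hc i, hgi]
      simpa using sub_mem (Ideal.mem_sup_right hsum) hrest
    have hcard : Fintype.card (Fin n) = Module.finrank (ResidueField A) (CotangentSpace A) := by
      rw [Fintype.card_fin, ← hfin, spanFinrank_maximalIdeal_eq_finrank_cotangentSpace]
    have htop := hli.span_eq_top_of_card_eq_finrank' hcard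
    rw [show Set.range v = m.toCotangent '' (Set.range fun i => (⟨u i, hum i⟩ : m)) by
      rw [← Set.range_comp]; rfl, CotangentSpace.span_image_eq_top_iff] at htop
    have := congrArg (Submodule.map m.subtype) htop
    rw [Submodule.map_span, ← Set.range_comp, Submodule.map_top, Submodule.range_subtype] at this
    exact this
  refine ⟨u, hspan, fun σ i => ?_⟩
  rw [← sub_add_cancel (σ • u i) (u i)]
  refine add_mem ?_ (Ideal.mem_sup_left (Ideal.subset_span ⟨i, show i ≤ i from le_rfl, rfl⟩))
  exact mem_span_image_sup (fun j (hj : j < i) => hj.le) (hfix σ i)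

end WildQuotLib
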