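import Groth.Agent.CommAlgDim.CM
import Groth.Agent.WildQuotLib.Admissible
import Mathlib.RingTheory.Length

/-!
# Lengths modulo products in each variable
-/

set_option autoImplicit false

universe u v

open IsLocalRing RingTheory.Sequence

namespace WildQuotLib

variable {A : Type u} [CommRing A]

/-- Multiplication by `x` from `A/(J + (y))` to `A/(J + (xy))`. -/
noncomputable def mulQuot (J : Ideal A) (x y : A) :
    (A ⧸ (J ⊔ Ideal.span {y})) →ₗ[A] A ⧸ (J ⊔ Ideal.span {x * y}) :=
  Submodule.mapQ _ _ (LinearMap.mulLeft A x) (by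
    refine sup_le (fun z hz => Ideal.mem_sup_left (J.mul_mem_left _ hz)) ?_
    refine (Ideal.span_singleton_le_iff_mem _).2 ?_
    exact Ideal.mem_sup_right (Ideal.mem_span_singleton_self _))

/-- The projection from `A/(J + (xy))` to `A/(J + (x))`. -/
noncomputable def projQuot (J : Ideal A) (x y : A) :
    (A ⧸ (J ⊔ Ideal.span {x * y})) →ₗ[A] A ⧸ (J ⊔ Ideal.span {x}) :=
  Submodule.mapQ _ _ LinearMap.id (by
    refine sup_le (fun z hz => Ideal.mem_sup_left hz) ?_
    exact (Ideal.span_singleton_le_iff_mem _).2 (Ideal.mem_sup_right (Ideal.mem_span_singleton'.2 ⟨y, mul_comm _ _⟩)))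

theorem projQuot_surjective (J : Ideal A) (x y : A) : Function.Surjective (projQuot J x y) := fun z => by
  obtain ⟨w, rfl⟩ := Submodule.Quotient.mk_surjective _ z
  exact ⟨Submodule.Quotient.mk w, rfl⟩

theorem exact_mulQuot_projQuot (J : Ideal A) (x y : A) : Function.Exact (mulQuot J x y) (projQuot J x y) := by
  intro z
  obtain ⟨w, rfl⟩ := Submodule.Quotient.mk_surjective _ z
  constructor
  · intro h
    obtain ⟨j, hj, s, hs, hjs⟩ := Submodule.mem_sup.1 ((Submodule.Quotient.mk_eq_zero _).1 h)
    obtain ⟨c, rfl⟩ := Ideal.mem_span_singleton'.1 hs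
    refine ⟨Submodule.Quotient.mk c, ?_⟩
    show Submodule.Quotient.mk (x * c) = _
    rw [Submodule.Quotient.eq]
    refine Ideal.mem_sup_left ?_
    have : x * c - w = -j := by rw [← show j + c * x = w from hjs]; ring
    rw [this]
    exact neg_mem hj
  · rintro ⟨c, hc⟩
    obtain ⟨c, rfl⟩ := Submodule.Quotient.mk_surjective _ c
    rw [← hc]
    show Submodule.Quotient.mk (x * c) = 0
    rw [Submodule.Quotient.mk_eq_zero]
    exact Ideal.mem_sup_right (Ideal.mul_mem_right _ _ (Ideal.mem_span_singleton_self x))

theorem length_mul_le (J : Ideal A) (x y : A) :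
    Module.length A (A ⧸ (J ⊔ Ideal.span {x * y})) ≤
      Module.length A (A ⧸ (J ⊔ Ideal.span {y})) + Module.length A (A ⧸ (J ⊔ Ideal.span {x})) := by
  let f := mulQuot J x y
  rw [Module.length_eq_add_of_exact (LinearMap.range f).subtype (projQuot J x y)
    (Submodule.injective_subtype _) (projQuot_surjective J x y) (by
      rw [LinearMap.exact_iff, Submodule.range_subtype]
      exact LinearMap.exact_iff.1 (exact_mulQuot_projQuot J x y))]
  exact add_le_add (Module.length_le_of_surjective f.rangeRestrict f.surjective_rangeRestrict) le_rfl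

theorem length_mul_eq (J : Ideal A) (x y : A) (hx : ∀ z, x * z ∈ J → z ∈ J) :
    Module.length A (A ⧸ (J ⊔ Ideal.span {x * y})) =
      Module.length A (A ⧸ (J ⊔ Ideal.span {y})) + Module.length A (A ⧸ (J ⊔ Ideal.span {x})) := by
  refine Module.length_eq_add_of_exact (mulQuot J x y) (projQuot J x y) ?_ (projQuot_surjective J x y)
    (exact_mulQuot_projQuot J x y)
  rw [injective_iff_map_eq_zero]
  intro z hz
  obtain ⟨w, rfl⟩ := Submodule.Quotient.mk_surjective _ z
  obtain ⟨j, hj, s, hs, hjs⟩ := Submodule.mem_sup.1 ((Submodule.Quotient.mk_eq_zero _).1 hz)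
  obtain ⟨c, rfl⟩ := Ideal.mem_span_singleton'.1 hs
  rw [Submodule.Quotient.mk_eq_zero]
  have hjs' : j + c * (x * y) = x * w := hjs
  have h1 : w - c * y ∈ J := hx _ (by
    rw [show x * (w - c * y) = j by linear_combination -hjs']
    exact hj)
  rw [show w = (w - c * y) + c * y by ring]
  exact add_mem (Ideal.mem_sup_left h1) (Ideal.mem_sup_right (Ideal.mul_mem_left _ _ (Ideal.mem_span_singleton_self y)))

theorem length_prod_le (J : Ideal A) {κ : Type*} [DecidableEq κ] (S : Finset κ) (y : κ → A) :
    Module.length A (A ⧸ (J ⊔ Ideal.span {∏ s ∈ S, y s})) ≤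
      ∑ s ∈ S, Module.length A (A ⧸ (J ⊔ Ideal.span {y s})) := by
  induction S using Finset.induction with
  | empty =>
    rw [Finset.prod_empty, Finset.sum_empty, Ideal.span_singleton_one, sup_top_eq]
    exact (Module.length_eq_zero).le
  | insert b S hb ih =>
    rw [Finset.prod_insert hb, Finset.sum_insert hb]
    refine (length_mul_le J (y b) _).trans ?_
    rw [add_comm]
    exact add_le_add le_rfl ih

variable [IsLocalRing A] {G : Type v} [Group G] [Fintype G] [MulSemiringAction G A]

omit [IsLocalRing A] [Group G] [MulSemiringAction G A] in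
theorem span_range_split {ι : Type*} (w : ι → A) (i : ι) :
    Ideal.span (Set.range w) = Ideal.span (w '' {j | j ≠ i}) ⊔ Ideal.span {w i} := by
  rw [← Ideal.span_union, ← Set.image_singleton, ← Set.image_union,
    show {j | j ≠ i} ∪ {i} = Set.univ by ext j; simpa using em (j = i), Set.image_univ]

theorem length_quotient_norm_le {n : ℕ} (u : Fin n → A)
    (hu : ∀ τ : Fin n → G, Ideal.span (Set.range fun i => τ i • u i) = maximalIdeal A) :
    Module.length A (A ⧸ Ideal.span (Set.range fun i => ∏ g : G, g • u i)) ≤
      (Fintype.card G ^ n : ℕ) := by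
  classical
  have key : ∀ (T : Finset (Fin n)) (τ : Fin n → G),
      Module.length A (A ⧸ Ideal.span (Set.range fun i => if i ∈ T then ∏ g : G, g • u i else τ i • u i)) ≤
        (Fintype.card G ^ T.card : ℕ) := by
    intro T
    induction T using Finset.induction with
    | empty =>
      intro τ
      rw [Finset.card_empty, pow_zero, Nat.cast_one,
        show (fun i => if i ∈ (∅ : Finset (Fin n)) then ∏ g : G, g • u i else τ i • u i) =
          fun i => τ i • u i from funext fun i => if_neg (Finset.notMem_empty i)]
      rw [hu τ, Module.length_eq_one_iff.2]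
      exact isSimpleModule_iff_quot_maximal.2 ⟨_, maximalIdeal.isMaximal A, ⟨LinearEquiv.refl _ _⟩⟩
    | insert i T hi ih =>
      intro τ
      set w : G → Fin n → A := fun g j => if j ∈ T then ∏ g : G, g • u j else Function.update τ i g j • u j
      set J := Ideal.span ((fun j => if j ∈ insert i T then ∏ g : G, g • u j else τ j • u j) '' {j | j ≠ i})
      rw [span_range_split _ i, if_pos (Finset.mem_insert_self i T)]
      refine (length_prod_le J Finset.univ fun g : G => g • u i).trans ?_
      have h1 : ∀ g : G, J ⊔ Ideal.span {g • u i} = Ideal.span (Set.range (w g)) := fun g => by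
        rw [span_range_split (w g) i, show w g i = g • u i by simp [w, hi]]
        refine congrArg (· ⊔ _) (congrArg Ideal.span (Set.image_congr fun j hj => ?_))
        simp [w, Function.update_of_ne (show j ≠ i from hj), show j ≠ i from hj]
      calc ∑ g : G, Module.length A (A ⧸ (J ⊔ Ideal.span {g • u i}))
          ≤ ∑ _g : G, ((Fintype.card G ^ T.card : ℕ) : ℕ∞) := Finset.sum_le_sum fun g _ => by
            rw [h1 g]; exact ih (Function.update τ i g)
        _ = (Fintype.card G ^ (insert i T).card : ℕ) := by
            rw [Finset.sum_const, Finset.card_univ, nsmul_eq_mul, Finset.card_insert_of_notMem hi,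
              pow_succ', Nat.cast_mul]
  have h := key Finset.univ fun _ => 1
  rw [show (fun i => if i ∈ (Finset.univ : Finset (Fin n)) then ∏ g : G, g • u i else (1 : G) • u i) =
    fun i => ∏ g : G, g • u i from funext fun i => if_pos (Finset.mem_univ i), Finset.card_univ,
    Fintype.card_fin] at h
  exact h

variable [IsNoetherianRing A]

omit [Group G] [Fintype G] [MulSemiringAction G A] in
/-- A system of parameters in a Cohen–Macaulay local ring is regular in any order. -/
theorem smul_regular_others (hA : CommAlgDim.IsCM A) {n : ℕ} (hn : ringKrullDim A = n) (w : Fin n → A)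
    (hrad : maximalIdeal A ≤ (Ideal.span (Set.range w)).radical) (hm : ∀ i, w i ∈ maximalIdeal A)
    (i : Fin n) (x : A) (hx : x ∣ w i) (z : A) (hz : x * z ∈ Ideal.span (w '' {j | j ≠ i})) :
    z ∈ Ideal.span (w '' {j | j ≠ i}) := by
  classical
  set L := ((Finset.univ.erase i).toList.map w) with hL
  have hLspan : Ideal.ofList L = Ideal.span (w '' {j | j ≠ i}) := by
    rw [Ideal.ofList, hL]
    congr 1
    ext a
    simp [eq_comm]
  have hfull : Ideal.ofList (L ++ [w i]) = Ideal.span (Set.range w) := by
    rw [Ideal.ofList_append, hLspan, Ideal.ofList_singleton, ← span_range_split]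
  have hmem : ∀ r ∈ L ++ [w i], r ∈ maximalIdeal A := by
    intro r hr
    rw [List.mem_append, List.mem_singleton, hL, List.mem_map] at hr
    rcases hr with ⟨j, -, rfl⟩ | rfl
    exacts [hm j, hm i]
  have hlen : (L ++ [w i]).length = n := by
    rw [List.length_append, hL, List.length_map, Finset.length_toList,
      Finset.card_erase_of_mem (Finset.mem_univ i), Finset.card_univ, Fintype.card_fin, List.length_singleton]
    have := i.pos
    omega
  have hdim0 : ringKrullDim (A ⧸ Ideal.ofList (L ++ [w i])) ≤ 0 := by
    rw [hfull, ringKrullDim_quotient]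
    refine Order.krullDim_nonpos_iff_forall_isMax.2 fun P Q hPQ => ?_
    have h1 : maximalIdeal A ≤ P.1.asIdeal := hrad.trans (P.1.isPrime.radical_le_iff.2 P.2)
    exact ((maximalIdeal.isMaximal A).eq_of_le P.1.isPrime.ne_top h1 ▸ le_maximalIdeal Q.1.isPrime.ne_top :
      Q.1.asIdeal ≤ P.1.asIdeal)
  have hreg := CommAlgDim.isRegular_of_dim hA hmem (by
    rw [hlen, hn]
    calc ringKrullDim (A ⧸ Ideal.ofList (L ++ [w i])) + (n : WithBot ℕ∞) ≤ 0 + n :=
          add_le_add hdim0 le_rfl
      _ = n := zero_add _)
  have hlast := (isWeaklyRegular_iff_Fin A (L ++ [w i])).1 hreg.toIsWeaklyRegular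
    ⟨L.length, by simp⟩
  have htake : (L ++ [w i]).take L.length = L := by simp
  simp only [Fin.getElem_fin, List.getElem_append_right (le_refl _), Nat.sub_self,
    List.getElem_singleton, htake, smul_eq_mul, Ideal.mul_top, hLspan] at hlast
  obtain ⟨y, hy⟩ := hx
  have h2 := isSMulRegular_quotient_iff_mem_of_smul_mem _ _ |>.1 hlast z
  rw [htake, smul_eq_mul, Ideal.mul_top, hLspan] at h2
  refine h2 ?_
  rw [hy, mul_right_comm]
  exact Ideal.mul_mem_right _ _ hz

theorem le_length_quotient_norm (hA : CommAlgDim.IsCM A) {n : ℕ} (hn : ringKrullDim A = n) (u : Fin n → A)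
    (hum : ∀ i, u i ∈ maximalIdeal A)
    (hwa : ∀ τ : Fin n → G, maximalIdeal A ≤ (Ideal.span (Set.range fun i => τ i • u i)).radical) :
    ((Fintype.card G ^ n : ℕ) : ℕ∞) ≤
      Module.length A (A ⧸ Ideal.span (Set.range fun i => ∏ g : G, g • u i)) := by
  classical
  have key : ∀ (T : Finset (Fin n)) (τ : Fin n → G), ((Fintype.card G ^ T.card : ℕ) : ℕ∞) ≤
      Module.length A (A ⧸ Ideal.span (Set.range fun i => if i ∈ T then ∏ g : G, g • u i else τ i • u i)) := by
    intro T
    induction T using Finset.induction with
    | empty =>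
      intro τ
      rw [Finset.card_empty, pow_zero, Nat.cast_one,
        show (fun i => if i ∈ (∅ : Finset (Fin n)) then ∏ g : G, g • u i else τ i • u i) =
          fun i => τ i • u i from funext fun i => if_neg (Finset.notMem_empty i)]
      have hne : Ideal.span (Set.range fun i => τ i • u i) ≠ ⊤ := fun h =>
        (maximalIdeal.isMaximal A).ne_top (top_le_iff.1 (h.ge.trans (Ideal.span_le.2 (by
          rintro _ ⟨i, rfl⟩; exact smul_mem_maximalIdeal _ (hum i)))))
      have : Nontrivial (A ⧸ Ideal.span (Set.range fun i => τ i • u i)) := Ideal.Quotient.nontrivial_iff.2 hne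
      exact Order.one_le_iff_pos.2 Module.length_pos
    | insert i T hi ih =>
      intro τ
      set w : G → Fin n → A := fun g j => if j ∈ T then ∏ g : G, g • u j else Function.update τ i g j • u j
      set f : Fin n → A := fun j => if j ∈ insert i T then ∏ g : G, g • u j else τ j • u j with hf
      set J := Ideal.span (f '' {j | j ≠ i})
      rw [span_range_split _ i, show f i = ∏ g : G, g • u i by simp [hf]]
      have h1 : ∀ g : G, J ⊔ Ideal.span {g • u i} = Ideal.span (Set.range (w g)) := fun g => by
        rw [span_range_split (w g) i, show w g i = g • u i by simp [w, hi]]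
        refine congrArg (· ⊔ _) (congrArg Ideal.span (Set.image_congr fun j hj => ?_))
        simp [w, hf, Function.update_of_ne (show j ≠ i from hj), show j ≠ i from hj]
      have hfm : ∀ j, f j ∈ maximalIdeal A := fun j => by
        simp only [hf]
        split_ifs
        · exact Ideal.mem_of_dvd _ (Finset.dvd_prod_of_mem _ (Finset.mem_univ 1))
            (smul_mem_maximalIdeal 1 (hum j))
        · exact smul_mem_maximalIdeal _ (hum j)
      have hfrad : maximalIdeal A ≤ (Ideal.span (Set.range f)).radical := by
        rw [Ideal.radical_eq_sInf]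
        refine le_sInf fun P ⟨hP, hPp⟩ => ?_
        have hsel : ∀ j, ∃ g : G, g • u j ∈ P := fun j => by
          by_cases hj : j ∈ insert i T
          · obtain ⟨g, -, hg⟩ := hPp.prod_mem_iff.1
              (show ∏ g : G, g • u j ∈ P from by
                have h0 : f j ∈ P := hP (Ideal.subset_span ⟨j, rfl⟩)
                rwa [show f j = _ from if_pos hj] at h0)
            exact ⟨g, hg⟩
          · exact ⟨τ j, by
              have h0 : f j ∈ P := hP (Ideal.subset_span ⟨j, rfl⟩)
              rwa [show f j = _ from if_neg hj] at h0⟩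
        choose σ hσ using hsel
        refine (hwa σ).trans (hPp.radical_le_iff.2 (Ideal.span_le.2 ?_))
        rintro _ ⟨j, rfl⟩
        exact hσ j
      have hsum : ∀ S : Finset G, ∑ g ∈ S, Module.length A (A ⧸ (J ⊔ Ideal.span {g • u i})) ≤
          Module.length A (A ⧸ (J ⊔ Ideal.span {∏ g ∈ S, g • u i})) := by
        intro S
        induction S using Finset.induction with
        | empty => simp
        | insert g S hg ih' =>
          rw [Finset.sum_insert hg, Finset.prod_insert hg,
            length_mul_eq J (g • u i) _ (fun z hz => smul_regular_others hA hn f hfrad hfm i (g • u i) (by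
              simp only [hf, Finset.mem_insert_self, if_true]
              exact Finset.dvd_prod_of_mem _ (Finset.mem_univ g)) z hz), add_comm]
          exact add_le_add ih' le_rfl
      refine le_trans ?_ (hsum Finset.univ)
      calc ((Fintype.card G ^ (insert i T).card : ℕ) : ℕ∞)
          = ∑ _g : G, ((Fintype.card G ^ T.card : ℕ) : ℕ∞) := by
            rw [Finset.sum_const, Finset.card_univ, nsmul_eq_mul, Finset.card_insert_of_notMem hi,
              pow_succ', Nat.cast_mul]
        _ ≤ _ := Finset.sum_le_sum fun g _ => by rw [h1 g]; exact ih (Function.update τ i g)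
  have h := key Finset.univ fun _ => 1
  rw [show (fun i => if i ∈ (Finset.univ : Finset (Fin n)) then ∏ g : G, g • u i else (1 : G) • u i) =
    fun i => ∏ g : G, g • u i from funext fun i => if_pos (Finset.mem_univ i), Finset.card_univ,
    Fintype.card_fin] at h
  exact h

end WildQuotLib
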