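import Groth.Agent.RegFlatLib.Basic
import Groth.Agent.CohenLib.FSRegular
import Groth.Agent.CommAlgDim.Integral
import Mathlib.RingTheory.LocalRing.Length
import Mathlib.RingTheory.HopkinsLevitzki
import Mathlib.LinearAlgebra.TensorProduct.Quotient
import Mathlib.LinearAlgebra.TensorProduct.Pi

/-!
# A complete regular local ring over the power series in a system of parameters
-/

set_option autoImplicit false

universe u v

open IsLocalRing TensorProduct

namespace WildQuotLib

theorem length_quotient_map_of_free (R : Type u) [CommRing R] (S : Type v) [CommRing S] [Algebra R S]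
    {ι : Type*} [Fintype ι] (b : Module.Basis ι R S) (J : Ideal R) :
    Module.length R (S ⧸ J.map (algebraMap R S)) = (Fintype.card ι : ℕ∞) * Module.length R (R ⧸ J) := by
  classical
  let e₁ : (R ⧸ J) ⊗[R] S ≃ₗ[R] S ⧸ (J • ⊤ : Submodule R S) :=
    TensorProduct.quotTensorEquivQuotSMul S J
  let e₂ : (S ⧸ (J • ⊤ : Submodule R S)) ≃ₗ[R]
      (S ⧸ Submodule.restrictScalars R (J.map (algebraMap R S))) :=
    Submodule.quotEquivOfEq _ _ (Ideal.smul_top_eq_map J)
  let e₃ := Submodule.Quotient.restrictScalarsEquiv R (J.map (algebraMap R S))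
  let e₄ : (R ⧸ J) ⊗[R] S ≃ₗ[R] (ι → R ⧸ J) :=
    (TensorProduct.congr (LinearEquiv.refl R _) b.equivFun).trans
      (TensorProduct.piScalarRight R R (R ⧸ J) ι)
  refine ((((e₁.trans e₂).trans e₃).symm.trans e₄).length_eq).trans ?_
  rw [Module.length_pi_of_fintype, Finset.sum_const, Finset.card_univ, nsmul_eq_mul]

variable {A : Type u} [CommRing A] [IsRegularLocalRing A] [IsAdicComplete (maximalIdeal A) A]
  {n : ℕ} {k : Type v} [Field k]

/-- Finiteness over the power series in a system of parameters, and injectivity. -/
theorem finite_and_injective_of_parameters (hn : ringKrullDim A = n)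
    (φ : MvPowerSeries (Fin n) k →+* A) (hres : Function.Surjective ((residue A).comp φ))
    (hrad : (Ideal.span (Set.range fun i => φ (MvPowerSeries.X i))).radical = maximalIdeal A) :
    φ.Finite ∧ Function.Injective φ ∧ IsLocalHom φ := by
  set a := CohenLib.varsIdeal k n
  set I := Ideal.span (Set.range fun i => φ (MvPowerSeries.X i)) with hIdef
  have hI : a.map φ = I := by
    rw [show a = Ideal.span (Set.range MvPowerSeries.X) from rfl, Ideal.map_span, ← Set.range_comp]
    rfl
  have hIm : I ≤ maximalIdeal A := Ideal.le_radical.trans_eq hrad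
  have hloc : IsLocalHom φ := ((local_hom_TFAE φ).out 0 2).2 (by
    rw [CohenLib.maximalIdeal_mvPowerSeries_field]; exact hI.trans_le hIm)
  let _ : Algebra (MvPowerSeries (Fin n) k) A := φ.toAlgebra
  have : IsLocalHom (algebraMap (MvPowerSeries (Fin n) k) A) := hloc
  have : IsAdicComplete a (MvPowerSeries (Fin n) k) := CohenLib.isAdicComplete_varsIdeal k
  have : IsHausdorff I A := IsHausdorff.of_le_jacobson I A
    (hIm.trans (jacobson_eq_maximalIdeal ⊥ bot_ne_top).ge)
  have hone : Module.length (ResidueField (MvPowerSeries (Fin n) k)) (ResidueField A) = 1 := by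
    have hbij : Function.Bijective
        (algebraMap (ResidueField (MvPowerSeries (Fin n) k)) (ResidueField A)) := by
      refine ⟨RingHom.injective _, fun y => ?_⟩
      obtain ⟨q, rfl⟩ := hres y
      exact ⟨residue _ q, (IsLocalRing.ResidueField.algebraMap_residue q).trans rfl⟩
    rw [← (LinearEquiv.ofBijective (Algebra.linearMap _ _) hbij).length_eq]
    exact Module.length_eq_one _ _
  have hart : IsArtinianRing (A ⧸ I) := by
    refine isArtinianRing_iff_isNoetherianRing_krullDimLE_zero.2 ⟨inferInstance, ?_⟩
    refine Ring.KrullDimLE.mk₀ fun P hP => ?_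
    have h1 : maximalIdeal A ≤ P.comap (Ideal.Quotient.mk I) := by
      rw [← hrad]
      refine (Ideal.IsPrime.radical_le_iff (hP.comap _)).2 fun z hz => ?_
      rw [Ideal.mem_comap, Ideal.Quotient.eq_zero_iff_mem.2 hz]
      exact zero_mem _
    have h2 : (P.comap (Ideal.Quotient.mk I)) = maximalIdeal A :=
      ((maximalIdeal.isMaximal A).eq_of_le (Ideal.IsPrime.ne_top (hP.comap _)) h1).symm
    rw [← Ideal.map_comap_of_surjective (Ideal.Quotient.mk I) Ideal.Quotient.mk_surjective P, h2]
    exact Ideal.IsMaximal.map_of_surjective_of_ker_le Ideal.Quotient.mk_surjective (by rw [Ideal.mk_ker]; exact hIm)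
  have hlenA : Module.length A (A ⧸ I) ≠ ⊤ := by
    have : IsNoetherian A (A ⧸ I) := inferInstance
    have : IsArtinian A (A ⧸ I) := isArtinian_of_surjective_algebraMap (R := A ⧸ I) (S := A) Ideal.Quotient.mk_surjective
    exact Module.length_ne_top
  have hfinq : Module.Finite (MvPowerSeries (Fin n) k) (A ⧸ I) := by
    have h := IsLocalRing.length_restrictScalars (MvPowerSeries (Fin n) k) A (A ⧸ I)
    rw [hone, mul_one] at h
    have h2 := (Module.length_ne_top_iff (R := MvPowerSeries (Fin n) k)).1 (h ▸ hlenA)
    rw [isFiniteLength_iff_isNoetherian_isArtinian] at h2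
    have := h2.1
    exact Module.IsNoetherian.finite _ _
  have hfin : φ.Finite := by
    refine CohenLib.finite_of_complete (I := I) a φ hI ?_
    exact RingHom.finite_algebraMap.2 hfinq
  refine ⟨hfin, ?_, hloc⟩
  rw [RingHom.injective_iff_ker_eq_bot]
  by_contra hne
  have := CohenLib.isRegularLocalRing_mvPowerSeries k n
  have h1 := CommAlgDim.ringKrullDim_quotient_lt hne
  rw [CohenLib.ringKrullDim_mvPowerSeries_field] at h1
  let _ : Algebra (MvPowerSeries (Fin n) k ⧸ RingHom.ker φ) A := (RingHom.kerLift φ).toAlgebra
  have : Module.Finite (MvPowerSeries (Fin n) k ⧸ RingHom.ker φ) A :=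
    RingHom.Finite.of_comp_finite (f := Ideal.Quotient.mk (RingHom.ker φ)) (g := RingHom.kerLift φ)
      (show φ.Finite from hfin)
  have h2 := CommAlgDim.ringKrullDim_eq_of_integral (MvPowerSeries (Fin n) k ⧸ RingHom.ker φ) A
    (RingHom.kerLift_injective φ)
  rw [hn] at h2
  rw [← h2] at h1
  exact lt_irrefl _ h1

/-- A basis over the power series in a system of parameters. -/
theorem exists_basis_over_parameters (hn : ringKrullDim A = n)
    (φ : MvPowerSeries (Fin n) k →+* A) (hres : Function.Surjective ((residue A).comp φ))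
    (hrad : (Ideal.span (Set.range fun i => φ (MvPowerSeries.X i))).radical = maximalIdeal A) :
    ∃ (d : ℕ) (b : Fin d → A),
      (d : ℕ∞) = Module.length A (A ⧸ Ideal.span (Set.range fun i => φ (MvPowerSeries.X i))) ∧
      Function.Bijective (fun r : Fin d → MvPowerSeries (Fin n) k => ∑ i, φ (r i) * b i) := by
  obtain ⟨hfin, hinj, hloc⟩ := finite_and_injective_of_parameters hn φ hres hrad
  set I := Ideal.span (Set.range fun i => φ (MvPowerSeries.X i)) with hIdef
  let P := φ.range
  let e : MvPowerSeries (Fin n) k ≃+* P :=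
    RingEquiv.ofBijective φ.rangeRestrict
      ⟨fun x y h => hinj (congrArg Subtype.val h), φ.rangeRestrict_surjective⟩
  have he : ∀ r, (e r : A) = φ r := fun _ => rfl
  have := CohenLib.isRegularLocalRing_mvPowerSeries k n
  have : IsRegularLocalRing P := IsRegularLocalRing.of_ringEquiv e
  have : IsDomain A := CommAlgDim.isDomain_of_isRegularLocalRing A
  have hfin' : Module.Finite P A := by
    let _ : Algebra (MvPowerSeries (Fin n) k) A := φ.toAlgebra
    let _ : Algebra (MvPowerSeries (Fin n) k) P := e.toRingHom.toAlgebra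
    have : IsScalarTower (MvPowerSeries (Fin n) k) P A := IsScalarTower.of_algebraMap_eq fun _ => rfl
    have : Module.Finite (MvPowerSeries (Fin n) k) A := hfin
    exact Module.Finite.of_restrictScalars_finite (MvPowerSeries (Fin n) k) _ _
  have : IsLocalHom (algebraMap P A) := ⟨fun z hz => by
    obtain ⟨r, rfl⟩ := e.surjective z
    exact (hloc.map_nonunit r hz).map e⟩
  have hCM : ∀ (q : Ideal A) [q.IsMaximal], (ringKrullDim (Localization.AtPrime q) : WithBot ℕ∞) ≤
      (LocCoh.depth (Localization.AtPrime q) (Localization.AtPrime q) : ℕ∞) := fun q _ =>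
    haveI := CommAlgDim.isRegularLocalRing_localization A q
    NormalLib.le_depth_self_of_isRegularLocalRing _
  have : Module.Free P A := RegFlatLib.free_of_finite_of_depth P A Subtype.val_injective hCM
  let b := Module.finBasis P A
  refine ⟨Module.finrank P A, b, ?_, ?_⟩
  · have hmap : (maximalIdeal P).map (algebraMap P A) = I := by
      have h1 : maximalIdeal P = Ideal.span (Set.range fun i => e (MvPowerSeries.X i)) := by
        rw [← IsLocalRing.map_maximalIdeal_of_surjective e.toRingHom e.surjective,
          CohenLib.maximalIdeal_mvPowerSeries_field, CohenLib.varsIdeal, Ideal.map_span, ← Set.range_comp]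
        rfl
      rw [h1, Ideal.map_span, ← Set.range_comp]
      rfl
    have hone : Module.length (ResidueField P) (ResidueField A) = 1 := by
      have hbij : Function.Bijective (algebraMap (ResidueField P) (ResidueField A)) := by
        refine ⟨RingHom.injective _, fun y => ?_⟩
        obtain ⟨q, rfl⟩ := hres y
        exact ⟨residue _ (e q), (IsLocalRing.ResidueField.algebraMap_residue (e q)).trans rfl⟩
      rw [← (LinearEquiv.ofBijective (Algebra.linearMap _ _) hbij).length_eq]
      exact Module.length_eq_one _ _
    have h1 := length_quotient_map_of_free P A b (maximalIdeal P)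
    rw [hmap, Fintype.card_fin] at h1
    have h2 := IsLocalRing.length_restrictScalars P A (A ⧸ I)
    rw [hone, mul_one] at h2
    rw [← h2, h1, Module.length_eq_one_iff.2 (isSimpleModule_iff_quot_maximal.2
      ⟨_, maximalIdeal.isMaximal P, ⟨LinearEquiv.refl _ _⟩⟩), mul_one]
  · have : (fun r : Fin (Module.finrank P A) → MvPowerSeries (Fin n) k => ∑ i, φ (r i) * b i) =
        b.equivFun.symm ∘ (fun r i => e (r i)) := by
      funext r
      rw [Function.comp_apply, Module.Basis.equivFun_symm_apply]
      rfl
    rw [this]
    exact b.equivFun.symm.bijective.comp (Function.Bijective.comp_left e.bijective)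

end WildQuotLib
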