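import Groth.Agent.WildQuotLib.Admissible
import Groth.Agent.WildQuotLib.ParamSys
import Groth.Agent.WildQuotLib.Origin
import Groth.Agent.CohenLib.PSHom
import Groth.Agent.CompleteLib.TwoIdeals
import Groth.Agent.NormalLib.Regular

/-!
# The invariant ring of a `p`-group acting on a complete regular local ring
-/

set_option autoImplicit false

universe u v w

open IsLocalRing

namespace WildQuotLib

variable {A : Type u} [CommRing A] [IsRegularLocalRing A] [IsAdicComplete (maximalIdeal A) A]
  {G : Type w} [Group G] [Finite G] [MulSemiringAction G A]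
  {p : ℕ} [Fact p.Prime] [CharP A p] {k : Type v} [Field k]

local notation "RG" => FixedPoints.subring A G

omit [IsRegularLocalRing A] [IsAdicComplete (maximalIdeal A) A] in
/-- Fixed elements of a field of representatives give fixed lifts. -/
theorem exists_fixed_lift [IsLocalRing A] (g : k →+* A) (hk : Function.Surjective (residue A ∘ g))
    (hgfix : ∀ (σ : G) (c : k), σ • g c = g c) (t : A) :
    ∃ c : A, (∀ σ : G, σ • c = c) ∧ t - c ∈ maximalIdeal A := by
  obtain ⟨c, hc⟩ := hk (residue A t)
  exact ⟨g c, fun σ => hgfix σ c, (residue_eq_zero_iff _).1 (by rw [map_sub, ← hc]; exact sub_self _)⟩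

include p in
/-- The power series in the norms of an admissible system of parameters map finitely into the
invariants. -/
theorem exists_parameters_fixed (g : k →+* A) (hk : Function.Surjective (residue A ∘ g))
    (hgfix : ∀ (σ : G) (c : k), σ • g c = g c) (hpg : IsPGroup p G) :
    ∃ (n : ℕ) (φ : MvPowerSeries (Fin n) k →+* RG), ((algebraMap RG A).comp φ).Finite ∧
      (Ideal.span (Set.range fun i => (φ (MvPowerSeries.X i) : A))).radical = maximalIdeal A := by
  classical
  cases nonempty_fintype G
  obtain ⟨n, hndef⟩ : ∃ n, (maximalIdeal A).spanFinrank = n := ⟨_, rfl⟩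
  obtain ⟨u, hu, htri⟩ := exists_admissible (A := A) (p := p) hpg hndef
  let N : Fin n → A := fun i => ∏ σ : G, σ • u i
  have hNm : ∀ i, N i ∈ maximalIdeal A := fun i =>
    (maximalIdeal A).mem_of_dvd (Finset.dvd_prod_of_mem (fun σ => σ • u i) (Finset.mem_univ 1))
      (by rw [one_smul, ← hu]; exact Ideal.subset_span ⟨i, rfl⟩)
  have hrad : (Ideal.span (Set.range N)).radical = maximalIdeal A := by
    refine le_antisymm ((maximalIdeal.isMaximal A).isPrime.radical_le_iff.2
      (Ideal.span_le.2 (by rintro _ ⟨i, rfl⟩; exact hNm i))) ?_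
    exact (maximalIdeal_le_radical_iff u hu).2 fun τ => by
      rw [admissible_of_triangular hndef u hu htri τ]; exact Ideal.le_radical
  let ψ := CohenLib.psHom (maximalIdeal A) g N hNm
  have hX : ∀ i, ψ (MvPowerSeries.X i) = N i := fun i => CohenLib.psHom_X _ g N hNm i
  have hfixN : ∀ (σ : G) i, σ • N i = N i := fun σ i => by
    show σ • ∏ τ : G, τ • u i = ∏ τ : G, τ • u i
    rw [Finset.smul_prod']
    refine Fintype.prod_equiv (Equiv.mulLeft σ) _ _ fun τ => ?_
    rw [Equiv.coe_mulLeft, smul_smul]
  have hfix : ∀ (σ : G) f, σ • ψ f = ψ f := by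
    intro σ f
    rw [← sub_eq_zero]
    refine IsHausdorff.haus' (I := maximalIdeal A) _ fun M => ?_
    rw [SModEq.zero, smul_eq_mul, Ideal.mul_top, ← Ideal.Quotient.eq_zero_iff_mem, map_sub, sub_eq_zero]
    let π := Ideal.Quotient.mk (maximalIdeal A ^ M)
    have hkill : ∀ χ : MvPowerSeries (Fin n) k →+* A, (∀ i, χ (MvPowerSeries.X i) ∈ maximalIdeal A) →
        ∀ z ∈ CohenLib.varsIdeal k n ^ M, π (χ z) = 0 := by
      intro χ hχ z hz
      have h1 : (CohenLib.varsIdeal k n).map χ ≤ maximalIdeal A := by
        rw [show CohenLib.varsIdeal k n = Ideal.span (Set.range MvPowerSeries.X) from rfl, Ideal.map_span,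
          Ideal.span_le]
        rintro _ ⟨_, ⟨i, rfl⟩, rfl⟩
        exact hχ i
      have h2 := Ideal.mem_map_of_mem χ hz
      rw [Ideal.map_pow] at h2
      exact Ideal.Quotient.eq_zero_iff_mem.2 (Ideal.pow_right_mono h1 M h2)
    let s := MulSemiringAction.toRingHom G A σ
    exact RingHom.congr_fun (CohenLib.ps_hom_ext (π.comp (s.comp ψ)) (π.comp ψ)
      (fun c => by
        show π (σ • ψ (MvPowerSeries.C c)) = π (ψ (MvPowerSeries.C c))
        rw [show ψ (MvPowerSeries.C c) = g c from CohenLib.psHom_C _ g N hNm c, hgfix])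
      (fun i => by
        show π (σ • ψ (MvPowerSeries.X i)) = π (ψ (MvPowerSeries.X i))
        rw [hX, hfixN]) M
      (hkill (s.comp ψ) fun i => by
        show σ • ψ (MvPowerSeries.X i) ∈ _
        rw [hX, hfixN]; exact hNm i)
      (hkill ψ fun i => by rw [hX]; exact hNm i)) f
  refine ⟨n, ψ.codRestrict (RG) (fun f σ => hfix σ f), ?_, ?_⟩
  · have hres : Function.Surjective ((residue A).comp ψ) := fun y => by
      obtain ⟨c, hc⟩ := hk y
      refine ⟨MvPowerSeries.C c, ?_⟩
      rw [← hc]
      exact congrArg (residue A) (CohenLib.psHom_C _ g N hNm c)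
    exact (finite_and_injective_of_parameters (by rw [← IsRegularLocalRing.spanFinrank_maximalIdeal, hndef]) ψ
      hres (by simp only [hX]; exact hrad)).1
  · show (Ideal.span (Set.range fun i => ψ (MvPowerSeries.X i))).radical = _
    simp only [hX]
    exact hrad

omit [IsAdicComplete (maximalIdeal A) A] [Finite G] in
/-- The invariants of a normal domain are normal. -/
theorem isIntegrallyClosed_fixed : IsIntegrallyClosed RG := by
  have : IsDomain A := CommAlgDim.isDomain_of_isRegularLocalRing A
  have : IsIntegrallyClosed A := NormalLib.isIntegrallyClosed_of_isRegularLocalRing A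
  let K := FractionRing RG
  let L := FractionRing A
  rw [isIntegrallyClosed_iff K]
  intro x hx
  obtain ⟨a, b, hb, rfl⟩ := IsFractionRing.div_surjective (A := RG) x
  let ι : RG →+* L := (algebraMap A L).comp (RG).subtype
  have hι : Function.Injective ι := (IsFractionRing.injective A L).comp Subtype.val_injective
  let f : K →+* L := IsFractionRing.lift hι
  have hf : ∀ z : RG, f (algebraMap RG K z) = algebraMap A L (z : A) := fun z =>
    IsFractionRing.lift_algebraMap hι z
  obtain ⟨q, hq, hq0⟩ := hx
  have hint : IsIntegral A (f (algebraMap RG K a / algebraMap RG K b)) := by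
    refine ⟨q.map (RG).subtype, hq.map _, ?_⟩
    rw [Polynomial.eval₂_map]
    have h1 := congrArg f hq0
    rw [map_zero, Polynomial.hom_eval₂] at h1
    rw [show (algebraMap A L).comp (RG).subtype = f.comp (algebraMap RG K) from
      RingHom.ext fun z => (hf z).symm]
    exact h1
  obtain ⟨c, hc⟩ := IsIntegrallyClosed.algebraMap_eq_of_integral hint
  have hbne : (b : A) ≠ 0 := fun h => nonZeroDivisors.ne_zero hb (Subtype.ext h)
  rw [map_div₀, hf, hf, eq_div_iff (by
    rw [Ne, IsFractionRing.to_map_eq_zero_iff]; exact hbne), ← map_mul] at hc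
  have hc' : c * (b : A) = a := IsFractionRing.injective A L hc
  have hcfix : ∀ σ : G, σ • c = c := fun σ => by
    refine mul_right_cancel₀ hbne ?_
    calc σ • c * (b : A) = σ • (c * (b : A)) := by rw [smul_mul', fixed_smul_eq]
      _ = c * (b : A) := by rw [hc', fixed_smul_eq]
  refine ⟨⟨c, hcfix⟩, ?_⟩
  rw [eq_div_iff (by rw [Ne, IsFractionRing.to_map_eq_zero_iff]; exact nonZeroDivisors.ne_zero hb),
    ← map_mul]
  exact congrArg _ (Subtype.ext hc')

include p in
/-- The invariants are Noetherian, the ring is finite over them, of the same dimension, and they are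
complete. -/
theorem invariants_properties (g : k →+* A) (hk : Function.Surjective (residue A ∘ g))
    (hgfix : ∀ (σ : G) (c : k), σ • g c = g c) (hpg : IsPGroup p G) :
    IsNoetherianRing RG ∧ Module.Finite RG A ∧ ringKrullDim RG = ringKrullDim A ∧
      IsAdicComplete (maximalIdeal RG) RG := by
  obtain ⟨n, φ, hfin, hrad⟩ := exists_parameters_fixed g hk hgfix hpg
  let P := MvPowerSeries (Fin n) k
  let _ : Algebra P RG := φ.toAlgebra
  let _ : Algebra P A := ((algebraMap RG A).comp φ).toAlgebra
  have : IsScalarTower P RG A := IsScalarTower.of_algebraMap_eq fun _ => rfl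
  have : Module.Finite P A := hfin
  have := CohenLib.isRegularLocalRing_mvPowerSeries k n
  have : IsNoetherian P A := isNoetherian_of_isNoetherianRing_of_finite P A
  have hP : Module.Finite P RG :=
    Module.Finite.of_injective (IsScalarTower.toAlgHom P RG A).toLinearMap Subtype.val_injective
  have hnoeth : IsNoetherianRing RG := IsNoetherianRing.of_finite P RG
  have hA : Module.Finite RG A := Module.Finite.of_restrictScalars_finite P RG A
  refine ⟨hnoeth, hA, ?_, ?_⟩
  · have : Algebra.IsIntegral RG A := Algebra.IsIntegral.of_finite RG A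
    exact (CommAlgDim.ringKrullDim_eq_of_integral RG A Subtype.val_injective).symm
  · set a := CohenLib.varsIdeal k n
    have : IsAdicComplete a P := CohenLib.isAdicComplete_varsIdeal k
    have hc : IsAdicComplete a RG := CompleteLib.isAdicComplete_of_finite
    set I := a.map (algebraMap P RG) with hIdef
    have : IsAdicComplete I RG := (IsAdicComplete.map_algebraMap_iff a RG).2 hc
    set J := maximalIdeal RG with hJdef
    have hJ : J ≤ I.radical := by
      intro r hr
      obtain ⟨l, hl⟩ := (hrad.ge (mem_maximalIdeal_fixed.1 hr))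
      rw [Ideal.radical_eq_sInf, Submodule.mem_sInf]
      intro Q ⟨hIQ, hQp⟩
      have : Algebra.IsIntegral RG A := Algebra.IsIntegral.of_finite RG A
      obtain ⟨Q', -, hQ'p, hQ'⟩ := Ideal.exists_ideal_over_prime_of_isIntegral (S := A) Q ⊥ (by
        intro z hz
        rw [Ideal.mem_comap, Ideal.mem_bot] at hz
        rw [show z = 0 from Subtype.ext hz]
        exact zero_mem _)
      have h1 : Ideal.span (Set.range fun i => (φ (MvPowerSeries.X i) : A)) ≤ Q' := by
        refine Ideal.span_le.2 ?_
        rintro _ ⟨i, rfl⟩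
        have h2 : φ (MvPowerSeries.X i) ∈ Q :=
          hIQ (Ideal.mem_map_of_mem _ (Ideal.subset_span ⟨i, rfl⟩))
        rw [← hQ'] at h2
        exact h2
      rw [← hQ']
      exact hQ'p.mem_of_pow_mem l (h1 hl)
    obtain ⟨N, hN⟩ := Ideal.exists_pow_le_of_le_radical_of_fg_radical hJ (IsNoetherian.noetherian _)
    have : IsAdicComplete (J.map (Ideal.Quotient.mk I)) (RG ⧸ I) :=
      CohenLib.isAdicComplete_of_isNilpotent _ ⟨N, by
        rw [← Ideal.map_pow, Ideal.zero_eq_bot, Ideal.map_eq_bot_iff_le_ker, Ideal.mk_ker]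
        exact hN⟩
    exact CompleteLib.isAdicComplete_of_quotient I J

end WildQuotLib
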