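import Mathlib.RingTheory.PowerSeries.Inverse
import Mathlib.RingTheory.PowerSeries.Order
import Mathlib.RingTheory.PowerSeries.Trunc
import Mathlib.RingTheory.IntegralClosure.IntegrallyClosed
import Mathlib.RingTheory.Polynomial.RationalRoot
import Mathlib.Algebra.CharP.Lemmas
import Mathlib.Algebra.CharP.Two
import Mathlib.FieldTheory.Finite.Basic

/-!
# The ramification break of an automorphism of order `p` of `k[[u]]`
-/

set_option autoImplicit false

universe u

namespace WildQuotLib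

open PowerSeries

variable {k : Type u} [Field k]

/-- `g` vanishes to order exactly `j`. -/
def HasOrd (g : PowerSeries k) (j : ℕ) : Prop :=
  ∃ h : PowerSeries k, g = X ^ j * h ∧ constantCoeff h ≠ 0

theorem hasOrd_iff_order {g : PowerSeries k} {j : ℕ} : HasOrd g j ↔ g.order = j := by
  rw [order_eq_nat]
  constructor
  · rintro ⟨h, rfl, hh⟩
    refine ⟨?_, fun i hi => (X_pow_dvd_iff.1 (dvd_mul_right _ h)) i hi⟩
    have h1 := coeff_X_pow_mul h j 0
    rw [zero_add] at h1
    rwa [h1, coeff_zero_eq_constantCoeff_apply]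
  · rintro ⟨hj, hlt⟩
    obtain ⟨h, rfl⟩ := X_pow_dvd_iff.2 hlt
    refine ⟨h, rfl, ?_⟩
    have h1 := coeff_X_pow_mul h j 0
    rw [zero_add] at h1
    rwa [h1, coeff_zero_eq_constantCoeff_apply] at hj

theorem HasOrd.unique {g : PowerSeries k} {i j : ℕ} (hi : HasOrd g i) (hj : HasOrd g j) : i = j := by
  have h := (hasOrd_iff_order.1 hi).symm.trans (hasOrd_iff_order.1 hj)
  exact_mod_cast h

theorem HasOrd.ne_zero {g : PowerSeries k} {i : ℕ} (hi : HasOrd g i) : g ≠ 0 := fun h => by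
  have := hasOrd_iff_order.1 hi
  rw [h, order_zero] at this
  exact ENat.top_ne_natCast _ this

theorem exists_hasOrd {g : PowerSeries k} (hg : g ≠ 0) : ∃ j, HasOrd g j :=
  ⟨g.order.toNat, hasOrd_iff_order.2 (coe_toNat_order hg).symm⟩

theorem HasOrd.mul {f g : PowerSeries k} {i j : ℕ} (hf : HasOrd f i) (hg : HasOrd g j) :
    HasOrd (f * g) (i + j) := by
  obtain ⟨a, rfl, ha⟩ := hf; obtain ⟨b, rfl, hb⟩ := hg
  exact ⟨a * b, by ring, by rw [map_mul]; exact mul_ne_zero ha hb⟩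

theorem HasOrd.pow {f : PowerSeries k} {i : ℕ} (hf : HasOrd f i) (n : ℕ) : HasOrd (f ^ n) (n * i) := by
  obtain ⟨a, rfl, ha⟩ := hf
  exact ⟨a ^ n, by ring, by rw [map_pow]; exact pow_ne_zero n ha⟩

theorem HasOrd.of_not_dvd {g : PowerSeries k} {i j : ℕ} (hi : HasOrd g i) (hj : X ^ j ∣ g) : j ≤ i := by
  by_contra h
  obtain ⟨a, rfl, ha⟩ := hi
  have h1 : (X : PowerSeries k) ^ (i + 1) ∣ X ^ i * a := (pow_dvd_pow X (by omega)).trans hj
  rw [pow_succ, mul_dvd_mul_iff_left (pow_ne_zero i X_ne_zero), X_dvd_iff] at h1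
  exact ha h1

theorem one_add_pow_eq (y : PowerSeries k) (j : ℕ) :
    ∃ q, (1 + y) ^ j = 1 + (j : PowerSeries k) * y + y ^ 2 * q := by
  induction j with
  | zero => exact ⟨0, by simp⟩
  | succ j ih =>
    obtain ⟨q, hq⟩ := ih
    exact ⟨q + q * y + j, by rw [pow_succ, hq, Nat.cast_succ]; ring⟩

variable (σ : PowerSeries k ≃ₐ[k] PowerSeries k) {m : ℕ}

/-- `σ - 1`. -/
noncomputable def dl (g : PowerSeries k) : PowerSeries k := σ g - g

theorem map_C (c : k) : σ (C c) = C c := σ.commutes c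

section Order

variable (hm : HasOrd (dl σ X) (m + 1))

include hm in
theorem dvd_dl (g : PowerSeries k) : X ^ (m + 1) ∣ dl σ g := by
  obtain ⟨e, he, -⟩ := hm
  have hX : σ (X : PowerSeries k) = X + X ^ (m + 1) * e := by rw [← he, dl]; ring
  have hpoly : ∀ P : Polynomial k, X ^ (m + 1) ∣ dl σ (P : PowerSeries k) := by
    intro P
    induction P using Polynomial.induction_on' with
    | add P Q hP hQ => rw [Polynomial.coe_add, dl, map_add, add_sub_add_comm]; exact dvd_add hP hQ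
    | monomial n c =>
      rw [Polynomial.coe_monomial, show PowerSeries.monomial n c = C c * X ^ n by
        rw [X_pow_eq, ← monomial_zero_eq_C_apply, monomial_mul_monomial, zero_add, mul_one],
        dl, map_mul, map_C, map_pow, ← mul_sub]
      refine dvd_mul_of_dvd_right (dvd_trans ?_ (sub_dvd_pow_sub_pow _ X n)) _
      exact ⟨e, by rw [hX]; ring⟩
  obtain ⟨g', hg⟩ : X ^ (m + 1) ∣ g - (trunc (m + 1) g : PowerSeries k) :=
    X_pow_dvd_iff.2 fun i hi => by rw [map_sub, Polynomial.coeff_coe, coeff_trunc, if_pos hi, sub_self]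
  have hdecomp : dl σ g = dl σ (trunc (m + 1) g : PowerSeries k) + (σ X ^ (m + 1) * σ g' - X ^ (m + 1) * g') := by
    rw [← map_pow, ← map_mul, ← hg, dl, dl, map_sub]; ring
  rw [hdecomp]
  refine dvd_add (hpoly _) (dvd_sub ?_ (dvd_mul_right _ _))
  refine dvd_mul_of_dvd_left (pow_dvd_pow_of_dvd ?_ _) _
  rw [hX, pow_succ']
  exact dvd_add dvd_rfl (dvd_mul_of_dvd_left (dvd_mul_right _ _) _)

include hm in
theorem constantCoeff_map (g : PowerSeries k) : constantCoeff (σ g) = constantCoeff g := by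
  obtain ⟨q, hq⟩ := dvd_dl σ hm g
  rw [show σ g = g + X ^ (m + 1) * q by rw [← hq, dl]; ring]
  simp

include hm in
theorem hasOrd_map_X (hm1 : 1 ≤ m) : HasOrd (σ X) 1 := by
  obtain ⟨e, he, -⟩ := hm
  refine ⟨1 + X ^ m * e, ?_, ?_⟩
  · rw [show σ (X : PowerSeries k) = X + dl σ X by rw [dl]; ring, he]; ring
  · rw [map_add, map_mul, map_pow, constantCoeff_X, zero_pow (by omega)]; simp

include hm in
theorem dvd_dl_mul_pow (hm1 : 1 ≤ m) (h : PowerSeries k) (j : ℕ) :
    ∃ r, dl σ (X ^ j * h) = X ^ (j + m) * r ∧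
      ∀ e, dl σ X = X ^ (m + 1) * e → constantCoeff r = (j : k) * constantCoeff e * constantCoeff h := by
  obtain ⟨e, he, -⟩ := id hm
  have hX : σ (X : PowerSeries k) = X * (1 + X ^ m * e) := by
    rw [show σ (X : PowerSeries k) = X + dl σ X by rw [dl]; ring, he]; ring
  obtain ⟨q, hq⟩ := one_add_pow_eq (X ^ m * e) j
  obtain ⟨h₁, hh⟩ : X ∣ h - C (constantCoeff h) := X_dvd_iff.2 (by simp)
  obtain ⟨r₁, hr₁⟩ := dvd_dl σ hm h₁
  have hdh : σ h = h + X ^ (m + 1) * (e * σ h₁ + X * r₁) := by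
    have h1 : h = C (constantCoeff h) + X * h₁ := by rw [← hh]; ring
    conv_lhs => rw [h1, map_add, map_mul, map_C, hX]
    have h2 : σ h₁ = h₁ + X ^ (m + 1) * r₁ := by rw [← hr₁, dl]; ring
    conv_rhs => enter [1]; rw [h1]
    rw [h2]; ring
  refine ⟨(j : PowerSeries k) * e * σ h + X ^ m * e ^ 2 * q * σ h + X * (e * σ h₁ + X * r₁), ?_, ?_⟩
  · rw [dl, map_mul, map_pow, hX, mul_pow, hq]
    linear_combination (X ^ j) * hdh
  · intro e' he'
    have : e' = e := mul_left_cancel₀ (pow_ne_zero (m + 1) X_ne_zero) (he'.symm.trans he)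
    subst this
    simp [constantCoeff_map σ hm, zero_pow (by omega : m ≠ 0)]

variable {p : ℕ} [hp : Fact p.Prime] [CharP k p]

include hm in
theorem hasOrd_dl (hm1 : 1 ≤ m) {g : PowerSeries k} {j : ℕ} (hg : HasOrd g j) (hj : ¬ p ∣ j) :
    HasOrd (dl σ g) (j + m) := by
  obtain ⟨h, rfl, hh⟩ := hg
  obtain ⟨r, hr, hr0⟩ := dvd_dl_mul_pow σ hm hm1 h j
  obtain ⟨e, he, he0⟩ := hm
  refine ⟨r, hr, ?_⟩
  rw [hr0 e he]
  exact mul_ne_zero (mul_ne_zero (fun h0 => hj ((CharP.cast_eq_zero_iff k p j).1 h0)) he0) hh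

include hm in
theorem dvd_of_fixed (hm1 : 1 ≤ m) {g : PowerSeries k} {j : ℕ} (hg : HasOrd g j) (hfix : σ g = g) : p ∣ j := by
  by_contra hj
  exact (hasOrd_dl σ hm hm1 hg hj).ne_zero (by rw [dl, hfix, sub_self])

end Order

variable {p : ℕ} [hp : Fact p.Prime] [CharP k p]

theorem one_le_break (hσp : σ ^ p = 1) (hm : HasOrd (dl σ X) (m + 1)) : 1 ≤ m := by
  by_contra h
  have hm0 : m = 0 := by omega
  subst hm0
  obtain ⟨e, he, he0⟩ := id hm
  have hX : σ (X : PowerSeries k) = X * (1 + e) := by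
    rw [show σ (X : PowerSeries k) = X + dl σ X by rw [dl]; ring, he]; ring
  set c := constantCoeff (1 + e) with hc
  have key : ∀ i : ℕ, ∃ w, (σ ^ i) X = X * w ∧ constantCoeff w = c ^ i := by
    intro i
    induction i with
    | zero => exact ⟨1, by simp, by simp⟩
    | succ i ih =>
      obtain ⟨w, hw, hwc⟩ := ih
      refine ⟨(1 + e) * σ w, ?_, ?_⟩
      · rw [pow_succ', AlgEquiv.mul_apply, hw, map_mul, hX]; ring
      · rw [map_mul, constantCoeff_map σ hm, hwc, pow_succ', ← hc]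
  obtain ⟨w, hw, hwc⟩ := key p
  rw [hσp, AlgEquiv.one_apply] at hw
  have hw1 : w = 1 := mul_left_cancel₀ X_ne_zero (hw.symm.trans (mul_one _).symm)
  rw [hw1, map_one] at hwc
  have h1 : (c - 1) ^ p = 0 := by rw [sub_pow_char, one_pow, ← hwc, sub_self]
  have h2 : c = 1 := sub_eq_zero.1 ((pow_eq_zero_iff hp.out.ne_zero).1 h1)
  rw [hc, map_add, map_one, add_eq_left] at h2
  exact he0 h2

/-- The norm of the uniformizer. -/
noncomputable def nrm (p : ℕ) : PowerSeries k := ∏ i ∈ Finset.range p, (σ ^ i) X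

omit [CharP k p] hp in
theorem map_nrm (hσp : σ ^ p = 1) : σ (nrm σ p) = nrm σ p := by
  rw [nrm, map_prod]
  rcases Nat.eq_zero_or_pos p with rfl | hpos
  · simp
  obtain ⟨q, rfl⟩ := Nat.exists_eq_succ_of_ne_zero hpos.ne'
  rw [Finset.prod_range_succ' (fun i => (σ ^ i) X), Finset.prod_range_succ,
    show (σ ^ 0) X = (σ ^ (q + 1)) X by rw [hσp, pow_zero]]
  simp only [pow_succ', AlgEquiv.mul_apply]

omit [CharP k p] hp in
theorem hasOrd_nrm (hm : HasOrd (dl σ X) (m + 1)) (hm1 : 1 ≤ m) (n : ℕ) :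
    HasOrd (∏ i ∈ Finset.range n, (σ ^ i) X) n := by
  have h1 : ∀ i : ℕ, HasOrd ((σ ^ i) X) 1 := by
    intro i
    induction i with
    | zero => exact ⟨1, by simp, by simp⟩
    | succ i ih =>
      obtain ⟨h, hh, hh0⟩ := ih
      obtain ⟨w, hw, hw0⟩ := hasOrd_map_X σ hm hm1
      refine ⟨w * σ h, ?_, ?_⟩
      · rw [pow_succ', AlgEquiv.mul_apply, hh, map_mul, pow_one, hw, pow_one, mul_assoc]
      · rw [map_mul, constantCoeff_map σ hm]; exact mul_ne_zero hw0 hh0
  induction n with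
  | zero => exact ⟨1, by simp, by simp⟩
  | succ n ih => rw [Finset.prod_range_succ]; exact ih.mul (h1 n)

theorem exists_uniformizer (hσp : σ ^ p = 1) (hm : HasOrd (dl σ X) (m + 1)) (hdvd : p ∣ m + 1) :
    ∃ s a : PowerSeries k, s.order = 1 ∧ σ a = a ∧ σ s = s + a := by
  have hm1 := one_le_break σ hσp hm
  have hp2 := hp.out.two_le
  have hiter : ∀ i, i ≤ p - 1 → HasOrd ((dl σ)^[i] (X ^ (p - 1))) (p - 1 + i * m) := by
    intro i
    induction i with
    | zero => exact fun _ => ⟨1, by simp, by simp⟩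
    | succ i ih =>
      intro hi
      have h := hasOrd_dl (p := p) σ hm hm1 (ih (by omega)) (fun hd => by
        obtain ⟨c, hc⟩ := hdvd
        have h1 : p ∣ (p - 1 + i * m) + (i + 1) := by
          refine ⟨1 + i * c, ?_⟩
          have : i * (m + 1) = i * (p * c) := by rw [hc]
          rw [mul_add, mul_one] at this ⊢
          rw [← mul_assoc, mul_comm p i, mul_assoc, ← this]
          omega
        have h2 : p ∣ i + 1 := (Nat.dvd_add_right hd).1 h1
        have := Nat.le_of_dvd (by omega) h2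
        omega)
      rw [Function.iterate_succ_apply']
      convert h using 1
      ring
  -- the last iterate is invariant
  have hzero : ∀ g, (dl σ)^[p] g = 0 := by
    intro g
    let E : Module.End k (PowerSeries k) := σ.toLinearMap
    have hiter' : ∀ i, (dl σ)^[i] g = ((E - 1) ^ i) g := by
      intro i
      induction i with
      | zero => simp
      | succ i ih => rw [Function.iterate_succ_apply', ih, pow_succ', Module.End.mul_apply]; rfl
    have : CharP (Module.End k (PowerSeries k)) p :=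
      charP_of_injective_algebraMap (FaithfulSMul.algebraMap_injective k _) p
    have hE : ∀ i : ℕ, (E ^ i) g = (σ ^ i) g := by
      intro i
      induction i with
      | zero => simp
      | succ i ih => rw [pow_succ', Module.End.mul_apply, ih, pow_succ', AlgEquiv.mul_apply]; rfl
    rw [hiter', sub_pow_char_of_commute p (Commute.one_right E), one_pow, LinearMap.sub_apply, hE p, hσp]
    simp
  set y := (dl σ)^[p - 2] (X ^ (p - 1)) with hy
  set t := (dl σ)^[p - 1] (X ^ (p - 1)) with ht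
  have hyt : σ y = y + t := by
    rw [ht, show p - 1 = p - 2 + 1 by omega, Function.iterate_succ_apply', dl, hy,
      show p - 2 + 1 = p - 1 by omega]
    ring
  have htfix : σ t = t := by
    have h := hzero (X ^ (p - 1))
    rw [show p = p - 1 + 1 by omega, Function.iterate_succ_apply', dl, sub_eq_zero,
      show p - 1 + 1 - 1 = p - 1 by omega] at h
    exact h
  obtain ⟨c, hc⟩ := hdvd
  set q := (p - 2) * c
  have hN := (hasOrd_nrm σ hm hm1 p).pow q
  obtain ⟨y₁, hy₁, hy₁0⟩ := hiter (p - 2) (by omega)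
  obtain ⟨t₁, ht₁, ht₁0⟩ := hiter (p - 1) le_rfl
  obtain ⟨n₁, hn₁, hn₁0⟩ := hN
  obtain ⟨v, hv⟩ := (isUnit_iff_constantCoeff.2 (isUnit_iff_ne_zero.2 hn₁0) : IsUnit n₁)
  have hqp : q * p = (p - 2) * (m + 1) := by rw [hc]; simp only [q]; ring
  obtain ⟨M, hM⟩ : ∃ M, p = M + 2 := ⟨p - 2, by omega⟩
  have hey : p - 1 + (p - 2) * m = q * p + 1 := by
    rw [hqp, show p - 1 = M + 1 by omega, show p - 2 = M by omega]; ring
  have het : p - 1 + (p - 1) * m = q * p + 1 + m := by
    rw [hqp, show p - 1 = M + 1 by omega, show p - 2 = M by omega]; ring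
  refine ⟨X * (y₁ * ((v⁻¹ : (PowerSeries k)ˣ) : PowerSeries k)), X ^ (1 + m) * (t₁ * ((v⁻¹ : (PowerSeries k)ˣ) : PowerSeries k)), ?_, ?_, ?_⟩
  · have : HasOrd (X * (y₁ * ((v⁻¹ : (PowerSeries k)ˣ) : PowerSeries k)) : PowerSeries k) 1 := ⟨y₁ * ((v⁻¹ : (PowerSeries k)ˣ) : PowerSeries k), by rw [pow_one], by
      rw [map_mul]
      exact mul_ne_zero hy₁0 ((v⁻¹).isUnit.map constantCoeff).ne_zero⟩
    exact_mod_cast hasOrd_iff_order.1 this
  all_goals
    have hN0 : nrm σ p ^ q ≠ 0 := ((hasOrd_nrm σ hm hm1 p).pow q).ne_zero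
    have hNfix : σ (nrm σ p ^ q) = nrm σ p ^ q := by rw [map_pow, map_nrm σ hσp]
    have hys : y = nrm σ p ^ q * (X * (y₁ * ((v⁻¹ : (PowerSeries k)ˣ) : PowerSeries k))) := by
      rw [hy, hy₁, hey, show nrm σ p ^ q = X ^ (q * p) * ↑v from hv ▸ hn₁, pow_succ]
      rw [show X ^ (q * p) * (v : PowerSeries k) * (X * (y₁ * ((v⁻¹ : (PowerSeries k)ˣ) : PowerSeries k))) =
        X ^ (q * p) * X * y₁ * ((v : PowerSeries k) * ((v⁻¹ : (PowerSeries k)ˣ) : PowerSeries k)) by ring, Units.mul_inv, mul_one]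
    have hta : t = nrm σ p ^ q * (X ^ (1 + m) * (t₁ * ((v⁻¹ : (PowerSeries k)ˣ) : PowerSeries k))) := by
      rw [ht, ht₁, het, show nrm σ p ^ q = X ^ (q * p) * ↑v from hv ▸ hn₁, add_assoc, pow_add]
      rw [show X ^ (q * p) * (v : PowerSeries k) * (X ^ (1 + m) * (t₁ * ((v⁻¹ : (PowerSeries k)ˣ) : PowerSeries k))) =
        X ^ (q * p) * X ^ (1 + m) * t₁ * ((v : PowerSeries k) * ((v⁻¹ : (PowerSeries k)ˣ) : PowerSeries k)) by ring, Units.mul_inv, mul_one]
    refine mul_left_cancel₀ hN0 ?_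
  · rw [← hta]
    conv_lhs => rw [← hNfix]
    rw [← map_mul, ← hta, htfix]
  · conv_lhs => rw [← hNfix]
    rw [← map_mul, ← hys, hyt, mul_add, ← hys, ← hta]

theorem dvd_of_uniformizer (hσp : σ ^ p = 1) (hm : HasOrd (dl σ X) (m + 1)) {s a : PowerSeries k}
    (hs : s.order = 1) (ha : σ a = a) (hsa : σ s = s + a) : p ∣ m + 1 := by
  have hm1 := one_le_break σ hσp hm
  have hs1 : HasOrd s 1 := hasOrd_iff_order.2 (by exact_mod_cast hs)
  have h := hasOrd_dl (p := p) σ hm hm1 hs1 hp.out.not_dvd_one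
  rw [show dl σ s = a by rw [dl, hsa]; ring, add_comm] at h
  exact dvd_of_fixed σ hm hm1 h ha

theorem conductor_eq_break (hσp : σ ^ p = 1) (hm : HasOrd (dl σ X) (m + 1)) {f : PowerSeries k}
    (hfσ : σ f = f) (hf0 : constantCoeff f ≠ 0) {μ : ℕ} (hμ : 0 < μ) (hpμ : ¬ p ∣ μ)
    (z : FractionRing (PowerSeries k))
    (hz : z ^ p - z = algebraMap (PowerSeries k) (FractionRing (PowerSeries k)) f /
      algebraMap (PowerSeries k) (FractionRing (PowerSeries k)) (nrm σ p) ^ μ) : μ = m := by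
  have hm1 := one_le_break σ hσp hm
  have hp2 := hp.out.two_le
  let K := FractionRing (PowerSeries k)
  let φ := algebraMap (PowerSeries k) K
  set N := nrm σ p
  have hN : HasOrd N p := hasOrd_nrm σ hm hm1 p
  have hφN : φ N ≠ 0 := (map_ne_zero_iff φ (IsFractionRing.injective _ K)).2 hN.ne_zero
  obtain ⟨M, hM⟩ : ∃ M, p = M + 2 := ⟨p - 2, by omega⟩
  set E := (p - 1) * μ
  have hEp : μ * p = E + μ := by simp only [E]; rw [show p - 1 = M + 1 by omega, hM]; ring
  have heq : (z * φ N ^ μ) ^ p - φ N ^ E * (z * φ N ^ μ) = φ (f * N ^ E) := by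
    rw [show (z * φ N ^ μ) ^ p - φ N ^ E * (z * φ N ^ μ) = (z ^ p - z) * (φ N ^ (E + μ)) by
      rw [mul_pow, ← pow_mul, hEp, pow_add]; ring, hz, pow_add, map_mul, map_pow]
    show φ f / φ N ^ μ * (φ N ^ E * φ N ^ μ) = φ f * φ N ^ E
    rw [mul_comm (φ N ^ E), ← mul_assoc, div_mul_cancel₀ _ (pow_ne_zero μ hφN)]
  have hint : IsIntegral (PowerSeries k) (z * φ N ^ μ) := by
    refine ⟨Polynomial.X ^ p - Polynomial.C (N ^ E) * Polynomial.X - Polynomial.C (f * N ^ E), ?_, ?_⟩
    · rw [sub_sub]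
      exact Polynomial.monic_X_pow_sub (lt_of_le_of_lt Polynomial.degree_linear_le
        (by exact_mod_cast hp.out.one_lt))
    · simp only [Polynomial.eval₂_sub, Polynomial.eval₂_mul, Polynomial.eval₂_pow, Polynomial.eval₂_X,
        Polynomial.eval₂_C]
      rw [map_pow]
      exact sub_eq_zero.2 heq
  obtain ⟨Y, hY⟩ := IsIntegrallyClosed.isIntegral_iff.1 hint
  have hYeq : Y ^ p - N ^ E * Y = f * N ^ E := by
    refine IsFractionRing.injective (PowerSeries k) K ?_
    rw [map_sub, map_mul, map_pow, map_pow, hY]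
    exact heq
  have hR : HasOrd (f * N ^ E) (E * p) := by
    have := (show HasOrd f 0 from ⟨f, by simp, hf0⟩).mul (hN.pow E)
    rwa [zero_add] at this
  have hY0 : Y ≠ 0 := fun h => hR.ne_zero (by rw [← hYeq, h, zero_pow hp.out.ne_zero]; ring)
  obtain ⟨j, hj⟩ := exists_hasOrd hY0
  have hjE : j = E := by
    obtain ⟨y₁, hy₁, hy₁0⟩ := hj.pow p
    obtain ⟨r₁, hr₁, hr₁0⟩ := (hN.pow E).mul hj
    rcases lt_trichotomy j E with hlt | heqj | hgt
    · exfalso
      have hlt' : p * j < E * p + j := by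
        have h1 : p * j < p * E := (Nat.mul_lt_mul_left hp.out.pos).2 hlt
        rw [mul_comm E p]; omega
      have h1 : HasOrd (f * N ^ E) (p * j) := by
        refine ⟨y₁ - X ^ (E * p + j - p * j) * r₁, ?_, ?_⟩
        · rw [← hYeq, hy₁, hr₁, mul_sub, ← mul_assoc, ← pow_add,
            show p * j + (E * p + j - p * j) = E * p + j by omega]
        · rw [map_sub, map_mul, map_pow, constantCoeff_X, zero_pow (by omega), zero_mul, sub_zero]
          exact hy₁0
      have h2 := h1.unique hR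
      rw [mul_comm E p] at h2
      exact hlt.ne (Nat.eq_of_mul_eq_mul_left hp.out.pos h2)
    · exact heqj
    · exfalso
      have h1 : X ^ (E * p + 1) ∣ f * N ^ E := by
        rw [← hYeq, hy₁, hr₁]
        refine dvd_sub (dvd_mul_of_dvd_left (pow_dvd_pow X ?_) _) (dvd_mul_of_dvd_left (pow_dvd_pow X ?_) _)
        · have : p * E < p * j := (Nat.mul_lt_mul_left hp.out.pos).2 hgt
          rw [mul_comm E p]; omega
        · omega
      have := hR.of_not_dvd h1
      omega
  subst hjE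
  have hpE : ¬ p ∣ E := fun h => by
    rcases (Nat.Prime.dvd_mul hp.out).1 h with h' | h'
    · have := Nat.le_of_dvd (by omega) h'; omega
    · exact hpμ h'
  have hw := hasOrd_dl (p := p) σ hm hm1 hj hpE
  have hNfix : σ N = N := map_nrm σ hσp
  have : CharP (PowerSeries k) p := charP_of_injective_algebraMap (PowerSeries.C_injective (R := k)) p
  have hweq : dl σ Y ^ p = N ^ E * dl σ Y := by
    have h1 := congrArg σ hYeq
    rw [map_sub, map_mul, map_mul, map_pow, map_pow, hNfix, hfσ] at h1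
    rw [dl, sub_pow_char]
    linear_combination h1 - hYeq
  have h2 := (hw.pow p).unique (hweq ▸ (hN.pow E).mul hw)
  rw [hM] at hEp h2
  have h3 : (M + 1) * μ = (M + 1) * m := by nlinarith [hEp, h2]
  exact Nat.eq_of_mul_eq_mul_left (by omega) h3

end WildQuotLib
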