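import Groth.Agent.RegFlatLib.Basic
import Groth.Agent.NormalLib.Regular
import Mathlib.RingTheory.LocalRing.ResidueField.Basic
import Mathlib.LinearAlgebra.FreeModule.Finite.Basic
import Mathlib.RingTheory.TensorProduct.Free
import Mathlib.RingTheory.Finiteness.Ideal

/-!
# Factors of a coproduct decomposition of a finite free local algebra
-/

set_option autoImplicit false

universe u v

open IsLocalRing TensorProduct

namespace WildQuotLib

/-- A finite algebra, regular local, over a regular local ring (universes may differ) is free. -/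
theorem free_of_regular (R : Type u) [CommRing R] [IsRegularLocalRing R] (A : Type v) [CommRing A]
    [IsRegularLocalRing A] [Algebra R A] [Module.Finite R A]
    (hinj : Function.Injective (algebraMap R A)) : Module.Free R A := by
  let e : R ≃+* (algebraMap R A).range :=
    RingEquiv.ofBijective (algebraMap R A).rangeRestrict
      ⟨fun x y h => hinj (congrArg Subtype.val h), (algebraMap R A).rangeRestrict_surjective⟩
  have : IsRegularLocalRing (algebraMap R A).range := IsRegularLocalRing.of_ringEquiv e
  have : IsDomain A := CommAlgDim.isDomain_of_isRegularLocalRing A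
  have hfin : Module.Finite (algebraMap R A).range A := by
    let _ : Algebra R (algebraMap R A).range := (algebraMap R A).rangeRestrict.toAlgebra
    have : IsScalarTower R (algebraMap R A).range A := IsScalarTower.of_algebraMap_eq fun _ => rfl
    exact Module.Finite.of_restrictScalars_finite R _ _
  have : Module.Free (algebraMap R A).range A :=
    RegFlatLib.free_of_finite_of_depth _ A Subtype.val_injective fun q _ =>
      haveI := CommAlgDim.isRegularLocalRing_localization A q
      NormalLib.le_depth_self_of_isRegularLocalRing _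
  let _ := RingHomInvPair.of_ringEquiv e.symm
  let _ := (RingHomInvPair.of_ringEquiv e.symm).symm
  let eA : A ≃ₛₗ[(e.symm : (algebraMap R A).range →+* R)] A :=
    { toFun := id
      invFun := id
      map_add' := fun _ _ => rfl
      map_smul' := fun c x => by
        obtain ⟨r, rfl⟩ := e.surjective c
        simp only [id, RingEquiv.coe_toRingHom, RingEquiv.symm_apply_apply, Subring.smul_def,
          Algebra.smul_def]
        rfl
      left_inv := fun _ => rfl
      right_inv := fun _ => rfl }
  exact Module.Free.of_equiv eA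

/-- In a free finite local algebra there is a linear form taking the value `1` at `1`. -/
theorem exists_form_one (R : Type u) [CommRing R] [IsLocalRing R] (A : Type v) [CommRing A]
    [Nontrivial A] [Algebra R A] [Module.Finite R A] [Module.Free R A] :
    ∃ l : A →ₗ[R] R, l 1 = 1 := by
  let b := Module.finBasis R A
  obtain ⟨k, hk⟩ : ∃ k, IsUnit (b.repr 1 k) := by
    by_contra hcon
    push Not at hcon
    have h1 : (1 : A) ∈ (maximalIdeal R) • (⊤ : Submodule R A) := by
      rw [← b.sum_repr 1]
      exact Submodule.sum_mem _ fun k _ =>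
        Submodule.smul_mem_smul (mem_maximalIdeal _ |>.2 (hcon k)) Submodule.mem_top
    have h2 : (⊤ : Submodule R A) ≤ (maximalIdeal R) • ⊤ := fun a _ => by
      rw [Ideal.smul_top_eq_map, Submodule.restrictScalars_mem] at h1 ⊢
      rw [Ideal.eq_top_of_isUnit_mem _ h1 isUnit_one]; exact Submodule.mem_top
    have := Submodule.eq_bot_of_le_smul_of_le_jacobson_bot (maximalIdeal R) ⊤
      Module.Finite.fg_top h2 (by rw [IsLocalRing.jacobson_eq_maximalIdeal ⊥ bot_ne_top])
    exact one_ne_zero (α := A) (by simpa [this] using (Submodule.mem_top (x := (1 : A)) (R := R)))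
  exact ⟨(↑hk.unit⁻¹ : R) • b.coord k, by simp⟩

variable {R : Type u} [CommRing R] [IsRegularLocalRing R] {A : Type v} [CommRing A]
  [IsRegularLocalRing A] [Algebra R A] [Module.Finite R A]

/-- If a regular local ring, finite over a regular local ring, is the coproduct of a family of
subalgebras, then each factor is free and regular local. -/
theorem free_and_regular_of_coproduct (hinj : Function.Injective (algebraMap R A)) {n : ℕ}
    (B : Fin n → Subalgebra R A)
    (hcoprod : ∀ (C : Type (max u v)) [CommRing C] [Algebra R C] (φ : ∀ i : Fin n, B i →ₐ[R] C),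
      ∃! ψ : A →ₐ[R] C, ∀ i (x : B i), ψ x = φ i x) (i : Fin n) :
    Module.Free R (B i) ∧ IsRegularLocalRing (B i) := by
  classical
  have hfree : Module.Free R A := free_of_regular R A hinj
  obtain ⟨l, hl⟩ := exists_form_one R A
  let Bi : Subalgebra R A := B i
  let C' : Subalgebra R A := ⨆ j ∈ (Finset.univ.erase i : Finset (Fin n)), B j
  have hC' : ∀ j, j ≠ i → B j ≤ C' := fun j hj =>
    le_iSup₂ (f := fun j (_ : j ∈ (Finset.univ.erase i : Finset (Fin n))) => B j) j (by simp [hj])
  let eU : ULift.{u} (Bi ⊗[R] C') ≃ₐ[R] (Bi ⊗[R] C') := ULift.algEquiv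
  let φ : ∀ j, B j →ₐ[R] ULift.{u} (Bi ⊗[R] C') := fun j =>
    if hj : j = i then
      eU.symm.toAlgHom.comp (Algebra.TensorProduct.includeLeft.comp
        (Subalgebra.inclusion (show B j ≤ Bi by rw [hj])))
    else eU.symm.toAlgHom.comp (Algebra.TensorProduct.includeRight.comp
      (Subalgebra.inclusion (hC' j hj)))
  obtain ⟨ψ₀, hψ₀, -⟩ := hcoprod (ULift.{u} (Bi ⊗[R] C')) φ
  let ψ : A →ₐ[R] Bi ⊗[R] C' := eU.toAlgHom.comp ψ₀
  have hψL : ∀ b : Bi, ψ (b : A) = b ⊗ₜ[R] (1 : C') := fun b => by
    show eU (ψ₀ _) = _
    rw [hψ₀ i b]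
    simp [φ, Subalgebra.inclusion]
  have hψR : ∀ c : C', ψ (c : A) = (1 : Bi) ⊗ₜ[R] c := by
    suffices h : C' ≤ (AlgHom.equalizer (ψ.comp C'.val)
        (Algebra.TensorProduct.includeRight : C' →ₐ[R] Bi ⊗[R] C')).map C'.val by
      intro c
      obtain ⟨d, hd, hdc⟩ := h c.2
      have : d = c := Subtype.ext hdc
      subst this
      exact hd
    refine iSup₂_le fun j hj => fun x hx => ?_
    have hji : j ≠ i := (Finset.mem_erase.1 hj).1
    refine ⟨⟨x, hC' j hji hx⟩, ?_, rfl⟩
    show eU (ψ₀ x) = _
    have := hψ₀ j ⟨x, hx⟩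
    simp only at this
    rw [this]
    simp [φ, hji]
  let Φ : Bi ⊗[R] C' →ₐ[R] A := Algebra.TensorProduct.productMap Bi.val C'.val
  have h1 : ∀ t, ψ (Φ t) = t := fun t => by
    induction t using TensorProduct.induction_on with
    | zero => simp
    | tmul b c =>
      simp only [Φ, Algebra.TensorProduct.productMap_apply_tmul, Subalgebra.coe_val, map_mul, hψL, hψR,
        Algebra.TensorProduct.tmul_mul_tmul, mul_one, one_mul]
    | add x y hx hy => simp only [map_add, hx, hy]
  have h2 : ∀ a, Φ (ψ a) = a := by
    let eA : ULift.{u} A ≃ₐ[R] A := ULift.algEquiv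
    obtain ⟨θ, -, hθu⟩ := hcoprod (ULift.{u} A) fun j => eA.symm.toAlgHom.comp (B j).val
    have e1 := hθu (eA.symm.toAlgHom.comp (Φ.comp ψ)) (fun j x => ?_)
    · have e2 := hθu eA.symm.toAlgHom (fun j x => rfl)
      intro a
      have := DFunLike.congr_fun (e1.trans e2.symm) a
      exact eA.symm.injective this
    · show eA.symm (Φ (ψ x)) = eA.symm x
      congr 1
      rcases eq_or_ne j i with rfl | hj
      · rw [hψL ⟨x, x.2⟩]; simp [Φ]
      · rw [hψR ⟨x, hC' j hj x.2⟩]; simp [Φ]
  -- both factors are direct summands of `A`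
  have hB : Module.Free R Bi := by
    let r : A →ₗ[R] Bi := (TensorProduct.rid R Bi).toLinearMap ∘ₗ
      (l ∘ₗ C'.val.toLinearMap).lTensor Bi ∘ₗ ψ.toLinearMap
    have : Module.Projective R Bi := Module.Projective.of_split Bi.val.toLinearMap r
      (LinearMap.ext fun b => by simp [r, hψL, hl])
    have : IsNoetherian R A := isNoetherian_of_isNoetherianRing_of_finite R A
    have : Module.Finite R Bi := Module.Finite.of_injective Bi.val.toLinearMap Subtype.val_injective
    exact Module.free_of_flat_of_isLocalRing
  have hC : Module.Free R C' := by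
    let r : A →ₗ[R] C' := (TensorProduct.lid R C').toLinearMap ∘ₗ
      (l ∘ₗ Bi.val.toLinearMap).rTensor C' ∘ₗ ψ.toLinearMap
    have : Module.Projective R C' := Module.Projective.of_split C'.val.toLinearMap r
      (LinearMap.ext fun b => by simp [r, hψR, hl])
    have : IsNoetherian R A := isNoetherian_of_isNoetherianRing_of_finite R A
    have : Module.Finite R C' := Module.Finite.of_injective C'.val.toLinearMap Subtype.val_injective
    exact Module.free_of_flat_of_isLocalRing
  refine ⟨hB, ?_⟩
  let Φ' : Bi ⊗[R] C' →ₐ[Bi] A :=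
    { Φ.toRingHom with
      commutes' := fun b => by
        show Φ (b ⊗ₜ[R] (1 : C')) = (b : A)
        simp [Φ] }
  have : Module.Free Bi A := Module.Free.of_equiv
    (AlgEquiv.ofBijective Φ' ⟨fun s t h => by simpa [h1] using congrArg ψ (show Φ s = Φ t from h),
      fun a => ⟨ψ a, h2 a⟩⟩).toLinearEquiv
  have : Algebra.IsIntegral Bi A := Algebra.IsIntegral.tower_top R
  have : IsLocalHom (algebraMap Bi A) :=
    (algebraMap_isIntegral_iff.2 inferInstance).isLocalHom Subtype.val_injective
  have : IsLocalRing Bi := (algebraMap Bi A).domain_isLocalRing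
  have : IsNoetherian R A := isNoetherian_of_isNoetherianRing_of_finite R A
  have : IsNoetherianRing Bi := by
    have : Module.Finite R Bi := Module.Finite.of_injective Bi.val.toLinearMap Subtype.val_injective
    exact IsNoetherianRing.of_finite R Bi
  exact RegFlatLib.isRegularLocalRing_of_flat Bi A

end WildQuotLib
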